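import Groth.Agent.Dcoh.DualFLF
import Groth.Agent.Dcoh.FinLocFree
import Groth.Agent.Vancyc.H175.TensAdd
import Groth.Agent.VarietyB.TensStalk
import Groth.Agent.Models2.FlatIso
import Groth.Agent.S2436

/-!
# `Hom(E, F ⊗_A M)` for `E` finite locally free, as a functor of `M`

* `homFunIso` : `Hom(E, -) ≅ Hom(O, - ⊗ E')` for `E'` dual to `E`;
* `isFlatOver_tensor_flf` : tensoring with a finite locally free module preserves flatness;
* `exists_corep` : for `X` proper over `A` Noetherian, `F` coherent and flat over `A` and `E` finite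
  locally free the functor `M ↦ Hom(E, F ⊗_A M)` is `Hom_A(Q, -)` with `Q` finite.
-/

set_option autoImplicit false
universe u

open CategoryTheory CategoryTheory.Limits AlgebraicGeometry Opposite MonoidalCategory

namespace K45.HomCorep

open scoped Groth.Agent.Dcoh.MonCat

section Dual

variable {X : Scheme.{u}}

/-- `Hom(E, N) = Hom(O, N ⊗ E')`. -/
noncomputable def homAddEquiv (E E' : X.Modules) [ExactPairing E E'] (N : X.Modules) :
    (E ⟶ N) ≃+ (𝟙_ X.Modules ⟶ N ⊗ E') where
  toFun f := tensorRightHomEquiv (𝟙_ X.Modules) E E' N ((λ_ E).hom ≫ f)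
  invFun g := (λ_ E).inv ≫ (tensorRightHomEquiv (𝟙_ X.Modules) E E' N).symm g
  left_inv f := by simp
  right_inv g := by simp
  map_add' f g := by
    have := Groth.Agent.Dcoh.MonInst.monPre X
    simp only [tensorRightHomEquiv, Equiv.coe_fn_mk, Preadditive.comp_add,
      MonoidalPreadditive.add_whiskerRight]

theorem homAddEquiv_comp (E E' : X.Modules) [ExactPairing E E'] {N N' : X.Modules} (f : E ⟶ N)
    (g : N ⟶ N') : homAddEquiv E E' N' (f ≫ g) = homAddEquiv E E' N f ≫ g ▷ E' := by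
  change tensorRightHomEquiv (𝟙_ X.Modules) E E' N' ((λ_ E).hom ≫ f ≫ g) =
    tensorRightHomEquiv (𝟙_ X.Modules) E E' N ((λ_ E).hom ≫ f) ≫ g ▷ E'
  rw [← Category.assoc, tensorRightHomEquiv_naturality]

/-- `Hom(E, -) ≅ Hom(O, - ⊗ E')`. -/
noncomputable def homFunIso (E E' : X.Modules) [ExactPairing E E'] :
    preadditiveCoyoneda.obj (op E) ≅
      tensorRight E' ⋙ preadditiveCoyoneda.obj (op (𝟙_ X.Modules)) :=
  NatIso.ofComponents (fun N => (homAddEquiv E E' N).toAddCommGrpIso) (fun {N N'} g => by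
    ext f
    exact homAddEquiv_comp E E' f g)

end Dual

section Over

variable {A : Type u} [CommRing A] {X : Scheme.{u}} [X.Over (Spec (CommRingCat.of A))]

variable (A X) in
/-- `Hom(O, -) ≅ Γ(X, -)`. -/
noncomputable def unitFunIso :
    preadditiveCoyoneda.obj (op (𝟙_ X.Modules)) ≅
      CohIII.globalSectionsA (X := X) A ⋙ forget₂ (ModuleCat.{u} A) AddCommGrpCat.{u} :=
  NatIso.ofComponents
    (fun N => (Groth.Agent.Dcoh.FinLocFree.unitEquiv N).toAddCommGrpIso) (fun {N N'} g => by
    ext f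
    rfl)

/-- `(F ⊗ M) ⊗ E' = (F ⊗ E') ⊗ M`. -/
noncomputable def assocIso (F E' : X.Modules) :
    CohIII.tensorAFunctor A F ⋙ tensorRight E' ≅ CohIII.tensorAFunctor A (F ⊗ E') :=
  NatIso.ofComponents (fun M => α_ ((Scheme.Modules.pullback (X ↘ Spec (CommRingCat.of A))).obj
    ((tilde.functor (CommRingCat.of A)).obj M)) F E') (fun _ =>
      associator_naturality_left _ _ _)

end Over

section Flat

/-- Tensoring with a finite locally free module preserves flatness over the base. -/
theorem isFlatOver_tensor_flf {X Y : Scheme.{u}} (f : X ⟶ Y) {F E : X.Modules}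
    (hE : FlatMod.IsFinLocFree E) (hF : FlatMod.IsFlatOver f F) :
    FlatMod.IsFlatOver f (CohB1.tensorMod F E) := by
  refine Groth.Agent.Models2.FlatIso.isFlatOver_of_iso f (Groth.Agent.Ega2.Tens.swap E F) ?_
  intro x
  obtain ⟨n, U, hx, e, he⟩ := Groth.Agent.VarietyB.ExactLoc.hasBasis_of_isFinLocFree hE x
  let eq := Groth.Agent.VarietyB.TensStalk.stalkEquiv he F hx
  let a1 : Module (Y.presheaf.stalk (f x)) (F.presheaf.stalk x) := FlatMod.moduleStalkOver f F x
  let a2 : Module (Y.presheaf.stalk (f x)) ((CohB1.tensorMod E F).presheaf.stalk x) :=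
    FlatMod.moduleStalkOver f (CohB1.tensorMod E F) x
  have h1 : Module.Flat (Y.presheaf.stalk (f x)) (F.presheaf.stalk x) := hF x
  have h3 : Module.Flat (Y.presheaf.stalk (f x)) (Π₀ _ : Fin n, F.presheaf.stalk x) :=
    Module.Flat.dfinsupp_iff.mpr fun _ => h1
  have h2 : Module.Flat (Y.presheaf.stalk (f x)) (Fin n → F.presheaf.stalk x) :=
    Module.Flat.of_linearEquiv (DFinsupp.linearEquivFunOnFintype
      (R := Y.presheaf.stalk (f x)) (M := fun _ : Fin n => F.presheaf.stalk x)).symm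
  let e' : (CohB1.tensorMod E F).presheaf.stalk x ≃ₗ[Y.presheaf.stalk (f x)]
      (Fin n → F.presheaf.stalk x) :=
    { eq with
      map_smul' := fun r m => eq.map_smul ((f.stalkMap x).hom r) m }
  exact Module.Flat.of_linearEquiv e'

end Flat

section Corep

variable {A : Type u} [CommRing A] {X : Scheme.{u}} [X.Over (Spec (CommRingCat.of A))]

/-- `M ↦ Hom(E, F ⊗_A M)` is corepresentable by a finite module. -/
theorem exists_corep [IsNoetherianRing A] [IsProper (X ↘ Spec (CommRingCat.of A))]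
    (F : X.Modules) (hF : Coh.IsCoh F)
    (hfl : FlatMod.IsFlatOver (X ↘ Spec (CommRingCat.of A)) F) (E : X.Modules)
    (hE : FlatMod.IsFinLocFree E) :
    ∃ Q : ModuleCat.{u} A, Module.Finite A Q ∧
      Nonempty (CohIII.tensorAFunctor A F ⋙ preadditiveCoyoneda.obj (op E) ≅
        (linearCoyoneda A (ModuleCat.{u} A)).obj (op Q) ⋙
          forget₂ (ModuleCat.{u} A) AddCommGrpCat.{u}) := by
  obtain ⟨E', ⟨hp⟩⟩ := Groth.Agent.Dcoh.DualFLF.exists_exactPairing hE
  have hE' : FlatMod.IsFinLocFree E' := Groth.Agent.Dcoh.DualFLF.isFinLocFree_dual hE E'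
  obtain ⟨Q, hQ, ⟨e⟩⟩ := Groth.Agent.S2436.result A X (CohB1.tensorMod F E')
    (Groth.Agent.Vancyc.H175.TensAdd.isCoh_tensor hF hE')
    (isFlatOver_tensor_flf (X ↘ Spec (CommRingCat.of A)) hE' hfl)
  refine ⟨Q, hQ, ⟨?_⟩⟩
  exact Functor.isoWhiskerLeft (CohIII.tensorAFunctor A F) (homFunIso E E') ≪≫
    (Functor.associator _ _ _).symm ≪≫
    Functor.isoWhiskerRight (assocIso F E') (preadditiveCoyoneda.obj (op (𝟙_ X.Modules))) ≪≫
    Functor.isoWhiskerLeft _ (unitFunIso A X) ≪≫
    (Functor.associator _ _ _).symm ≪≫ Functor.isoWhiskerRight e _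

end Corep

section Ker

/-- Two subobjects (given by injections) of a functor with the same image are isomorphic. -/
theorem nonempty_iso_of_range {C : Type*} [Category C] {F G H : C ⥤ AddCommGrpCat.{u}}
    (α : F ⟶ H) (β : G ⟶ H)
    (hα : ∀ M, Function.Injective (α.app M).hom) (hβ : ∀ M, Function.Injective (β.app M).hom)
    (h : ∀ (M) (x : H.obj M), (∃ y, (α.app M).hom y = x) ↔ ∃ y, (β.app M).hom y = x) :
    Nonempty (F ≅ G) := by
  have h1 : ∀ M, ∃ e : F.obj M ≃+ G.obj M, ∀ x, (β.app M).hom (e x) = (α.app M).hom x := by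
    intro M
    have hr : (α.app M).hom.range = (β.app M).hom.range := by
      ext x
      exact h M x
    let e1 := AddMonoidHom.ofInjective (hα M)
    let e2 := AddMonoidHom.ofInjective (hβ M)
    let e := (e1.trans (AddEquiv.addSubgroupCongr hr)).trans e2.symm
    refine ⟨e, fun x => ?_⟩
    have h2 : e2 (e x) = AddEquiv.addSubgroupCongr hr (e1 x) := e2.apply_symm_apply _
    exact congrArg Subtype.val h2
  choose e he using h1
  refine ⟨NatIso.ofComponents (fun M => (e M).toAddCommGrpIso) (fun {M N} g => ?_)⟩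
  ext x
  change e N ((F.map g).hom x) = (G.map g).hom (e M x)
  apply hβ N
  rw [he]
  have n1 := ConcreteCategory.congr_hom (α.naturality g) x
  have n2 := ConcreteCategory.congr_hom (β.naturality g) (e M x)
  change (α.app N).hom ((F.map g).hom x) = (H.map g).hom ((α.app M).hom x) at n1
  change (β.app N).hom ((G.map g).hom (e M x)) = (H.map g).hom ((β.app M).hom (e M x)) at n2
  rw [n1, n2, he]

/-- Additive transformations between corepresentable functors (to abelian groups). -/
theorem exists_map {A : Type u} [CommRing A] (Q Q' : ModuleCat.{u} A)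
    (η : (linearCoyoneda A (ModuleCat.{u} A)).obj (op Q) ⋙
          forget₂ (ModuleCat.{u} A) AddCommGrpCat.{u} ⟶
        (linearCoyoneda A (ModuleCat.{u} A)).obj (op Q') ⋙
          forget₂ (ModuleCat.{u} A) AddCommGrpCat.{u}) :
    ∃ t : Q' ⟶ Q, ∀ (M : ModuleCat.{u} A) (f : Q ⟶ M), (η.app M).hom f = t ≫ f := by
  refine ⟨(η.app Q).hom (𝟙 Q : Q ⟶ Q), fun M f => ?_⟩
  have h := ConcreteCategory.congr_hom (η.naturality f) (𝟙 Q : Q ⟶ Q)
  change (η.app M).hom (𝟙 Q ≫ f) = ((η.app Q).hom (𝟙 Q : Q ⟶ Q) : Q' ⟶ Q) ≫ f at h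
  rw [Category.id_comp] at h
  exact h

end Ker

end K45.HomCorep
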