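import Groth.Agent.Coherent.K45.MonLift
import Groth.Agent.Coherent.K45.HomCorep
import Groth.Agent.Dcoh.MonPull292
import Groth.Agent.Ega3B.SecLiftMain
import Groth.Agent.Ega3B.FibreCmp
import Groth.Agent.LoccohB.HHmap
import Groth.Agent.Fdesc.LocGenPullback
import Groth.Agent.PerfB.StructFlat

/-!
# Lifting homomorphisms between finite locally free modules from a fibre
-/

set_option autoImplicit false
universe u

open CategoryTheory CategoryTheory.Limits AlgebraicGeometry Opposite MonoidalCategory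

namespace K45.HomLift

open scoped Groth.Agent.Dcoh.MonCat
open Groth.Agent Groth.Agent.Fdesc Groth.Agent.Fdesc.LocGen
open Groth.Agent.LoccohB.HHmap (smulHom smulHom_comp smulHom_app)
open Groth.Agent.Ega3B.EqzSections (secMap)

attribute [local instance] Groth.Agent.Dcoh.MonPull.monPull

section Unit

variable {X Z : Scheme.{u}} (g : Z ⟶ X)

/-- Morphisms out of `g^* O_X` are determined by the value at the unit section. -/
theorem pull_hom_ext {M : Z.Modules}
    {φ ψ : (Scheme.Modules.pullback g).obj (Coh.structureModule X) ⟶ M}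
    (h : φ.app ⊤ (pullTop g (one ⊤)) = ψ.app ⊤ (pullTop g (one ⊤))) : φ = ψ := by
  apply ((Scheme.Modules.pullbackPushforwardAdjunction g).homEquiv _ _).injective
  apply hom_ext_sec
  exact (homEquiv_app_top g φ (one ⊤)).trans (h.trans (homEquiv_app_top g ψ (one ⊤)).symm)

/-- The section of `g^* (G ⊗ F')` given by `w : g^* F → g^* G`. -/
noncomputable def secOf {F G F' : X.Modules} [ExactPairing F F']
    (w : (Scheme.Modules.pullback g).obj F ⟶ (Scheme.Modules.pullback g).obj G) :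
    Γ((Scheme.Modules.pullback g).obj (CohB1.tensorMod G F'), ⊤) :=
  (MonLift.pm (Scheme.Modules.pullback g) F F' w).app ⊤ (pullTop g (one ⊤))

/-- The automorphism of `M` given by an endomorphism of the unit. -/
noncomputable def act {Z : Scheme.{u}} (M : Z.Modules) (c : Γ(Z, ⊤)) : M ⟶ M :=
  (λ_ M).inv ≫ smulHom (𝟙_ Z.Modules) c ▷ M ≫ (λ_ M).hom

theorem isIso_smulHom {Z : Scheme.{u}} (M : Z.Modules) {c : Γ(Z, ⊤)} (hc : IsUnit c) :
    IsIso (smulHom M c) := by
  obtain ⟨c, rfl⟩ := hc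
  have key : ∀ a b : Γ(Z, ⊤), a * b = 1 → smulHom M a ≫ smulHom M b = 𝟙 M := by
    intro a b h
    apply Scheme.Modules.hom_ext
    intro V
    ext s
    change Groth.Agent.LoccohB.GlueHom.resO (le_top : V ≤ ⊤) b •
      (Groth.Agent.LoccohB.GlueHom.resO (le_top : V ≤ ⊤) a • s) = s
    rw [smul_smul, ← map_mul, mul_comm, h, map_one, one_smul]
  exact ⟨smulHom M _, key _ _ c.mul_inv, key _ _ c.inv_mul⟩

theorem isIso_act {Z : Scheme.{u}} (M : Z.Modules) {c : Γ(Z, ⊤)} (hc : IsUnit c) :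
    IsIso (act M c) := by
  have := isIso_smulHom (𝟙_ Z.Modules) hc
  unfold act
  infer_instance

theorem act_one {Z : Scheme.{u}} (M : Z.Modules) : act M 1 = 𝟙 M := by
  have h : smulHom (𝟙_ Z.Modules) (1 : Γ(Z, ⊤)) = 𝟙 _ := by
    apply Scheme.Modules.hom_ext
    intro V
    ext s
    change Groth.Agent.LoccohB.GlueHom.resO (le_top : V ≤ ⊤) (1 : Γ(Z, ⊤)) • s = s
    rw [map_one, one_smul]
  rw [act, h]
  simp

theorem exists_hom_of_sec {F G F' : X.Modules} [ExactPairing F F']
    (w : (Scheme.Modules.pullback g).obj F ⟶ (Scheme.Modules.pullback g).obj G)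
    (s : Γ(CohB1.tensorMod G F', ⊤)) (c : Γ(Z, ⊤))
    (hs : pullTop g s = c • secOf g w) :
    ∃ u : F ⟶ G, (Scheme.Modules.pullback g).map u = act _ c ≫ w := by
  refine MonLift.exists_hom (Scheme.Modules.pullback g) F F' w (homOf s)
    (smulHom (𝟙_ Z.Modules) c) ?_
  rw [← Category.assoc, smulHom_comp, Category.assoc]
  congr 1
  apply pull_hom_ext
  have h1 : ((Scheme.Modules.pullback g).map (homOf s)).app ⊤ (pullTop g (one ⊤)) =
      pullTop g s := by
    refine (pullback_map_pullSec g (homOf s) (one ⊤)).trans ?_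
    change pullSec g ((homOf s).app ⊤ (one ⊤)) = pullSec g s
    congr 1
    have := sec_homOf s ⊤
    rw [res_refl] at this
    exact this
  refine h1.trans (hs.trans ?_)
  rw [smulHom_comp]
  change c • secOf g w = Groth.Agent.LoccohB.GlueHom.resO (le_top : (⊤ : Z.Opens) ≤ ⊤) c • secOf g w
  congr 1
  exact (ores_refl c).symm

end Unit

section SheafHom

/-- `Hom(E, N) ≅ N ⊗ E'` for `E` dualizable. -/
theorem nonempty_sheafHom_iso {Z : Scheme.{u}} (E E' : Z.Modules) [ExactPairing E E']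
    [DCoh.HasSheafHom E] (N : Z.Modules) :
    Nonempty ((DCoh.sheafHom E).obj N ≅ CohB1.tensorMod N E') := by
  let adj1 : tensorLeft E ⊣ DCoh.sheafHom E := DCoh.sheafHomAdj E
  let adj2 : tensorLeft E ⊣ tensorRight E' :=
    (tensorRightAdjunction E E').ofNatIsoLeft (BraidedCategory.tensorLeftIsoTensorRight E).symm
  exact ⟨(adj1.rightAdjointUniq adj2).app N⟩

end SheafHom

section Coh

variable {A : Type u} [CommRing A] [IsNoetherianRing A] {X : Scheme.{u}}
  [X.Over (Spec (CommRingCat.of A))]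

theorem exists_sec [IsProper (X ↘ Spec (CommRingCat.of A))] {F G F' : X.Modules}
    [ExactPairing F F'] (hG : Coh.IsCoh G)
    (hfl : FlatMod.IsFlatOver (X ↘ Spec (CommRingCat.of A)) G)
    (hF' : FlatMod.IsFinLocFree F')
    (p : Ideal A) [p.IsPrime] {Z : Scheme.{u}} {g : Z ⟶ X}
    {q : Z ⟶ Spec (CommRingCat.of p.ResidueField)}
    (H : IsPullback g q (X ↘ Spec (CommRingCat.of A))
      (Spec.map (CommRingCat.ofHom (algebraMap A p.ResidueField))))
    (h1 : Subsingleton (Coh.HH Z ((Scheme.Modules.pullback g).obj (CohB1.tensorMod G F')) 1))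
    (w : (Scheme.Modules.pullback g).obj F ⟶ (Scheme.Modules.pullback g).obj G) :
    ∃ (a : A) (s : Γ(CohB1.tensorMod G F', ⊤)), a ∉ p ∧
      pullTop g s = secMap q ⊤ (algebraMap A p.ResidueField a) • secOf g w := by
  have hc : Coh.IsCoh (CohB1.tensorMod G F') :=
    Groth.Agent.Vancyc.H175.TensAdd.isCoh_tensor hG hF'
  obtain ⟨e, -⟩ := Groth.Agent.Ega3B.FibreCmp.exists_cmp g q H (CohB1.tensorMod G F') hc.1 1
  obtain ⟨a, s, ha, hs⟩ := Groth.Agent.Ega3B.SecLiftMain.exists_sec_lift (CohB1.tensorMod G F') hc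
    (HomCorep.isFlatOver_tensor_flf _ hF' hfl) p e.symm.toEquiv.subsingleton H (secOf g w)
  refine ⟨a, s, ha, ?_⟩
  have h2 : Groth.Agent.VarietyB.PullSec.sec g (CohB1.tensorMod G F') (le_refl (g ⁻¹ᵁ ⊤)) s =
      pullTop g s := res_refl _ (pullSec g s)
  exact h2.symm.trans hs

/-- Finite locally free modules are flat over the base of a flat morphism. -/
theorem isFlatOver_of_flf {X Y : Scheme.{u}} (f : X ⟶ Y) [Flat f] {E : X.Modules}
    (hE : FlatMod.IsFinLocFree E) : FlatMod.IsFlatOver f E :=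
  Groth.Agent.Models2.FlatIso.isFlatOver_of_iso f (λ_ E)
    (HomCorep.isFlatOver_tensor_flf f hE (Groth.Agent.PerfB.StructFlat.isFlatOver_structure f))

section Main

variable [IsProper (X ↘ Spec (CommRingCat.of A))] [Flat (X ↘ Spec (CommRingCat.of A))]
    {F G : X.Modules} (hF : FlatMod.IsFinLocFree F) (hG : FlatMod.IsFinLocFree G)
    (p : Ideal A) [p.IsPrime] {Z : Scheme.{u}} {g : Z ⟶ X}
    {q : Z ⟶ Spec (CommRingCat.of p.ResidueField)}
    (H : IsPullback g q (X ↘ Spec (CommRingCat.of A))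
      (Spec.map (CommRingCat.ofHom (algebraMap A p.ResidueField))))
    (h1 : ∀ E' : Z.Modules, Nonempty (ExactPairing ((Scheme.Modules.pullback g).obj F) E') →
      Subsingleton (Coh.HH Z (CohB1.tensorMod ((Scheme.Modules.pullback g).obj G) E') 1))
    (w : (Scheme.Modules.pullback g).obj F ⟶ (Scheme.Modules.pullback g).obj G)

include hF hG H h1 in
theorem exists_sec' : ∃ (F' : X.Modules) (_ : ExactPairing F F') (a : A)
      (s : Γ(CohB1.tensorMod G F', ⊤)), a ∉ p ∧
      pullTop g s = secMap q ⊤ (algebraMap A p.ResidueField a) • secOf g w := by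
  obtain ⟨F', ⟨hp⟩⟩ := Groth.Agent.Dcoh.DualFLF.exists_exactPairing hF
  have hF' : FlatMod.IsFinLocFree F' := Groth.Agent.Dcoh.DualFLF.isFinLocFree_dual hF F'
  have h2 := h1 ((Scheme.Modules.pullback g).obj F')
    ⟨Groth.Agent.Dcoh.MonDual.mapExactPairing (Scheme.Modules.pullback g) F F'⟩
  have h2' : Subsingleton (Coh.HH Z ((Scheme.Modules.pullback g).obj G ⊗
    (Scheme.Modules.pullback g).obj F') 1) := h2
  obtain ⟨e, -⟩ := Groth.Agent.Ega3B.FibreResid.exists_equiv_HH
    (Functor.Monoidal.μIso (Scheme.Modules.pullback g) G F').symm 1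
  obtain ⟨a, s, ha, hs⟩ := exists_sec (Groth.Agent.PerfA.CohSerre.isCoh_of_isFinLocFree hG)
    (isFlatOver_of_flf _ hG) hF' p H (@Equiv.subsingleton _ _ e.toEquiv h2') w
  exact ⟨F', hp, a, s, ha, hs⟩

include hF hG H h1 in
/-- The main lifting result: `w : g^* F → g^* G` lifts, up to an automorphism of `g^* F`. -/
theorem exists_lift :
    ∃ (c : Γ(Z, ⊤)) (u : F ⟶ G), IsUnit c ∧ (Scheme.Modules.pullback g).map u = act _ c ≫ w := by
  obtain ⟨F', hp, a, s, ha, hs⟩ := exists_sec' hF hG p H h1 w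
  obtain ⟨u, hu⟩ := exists_hom_of_sec g w s _ hs
  refine ⟨_, u, ?_, hu⟩
  refine IsUnit.map _ (IsUnit.mk0 _ ?_)
  rw [Ne, Ideal.algebraMap_residueField_eq_zero]
  exact ha

include hF hG H h1 in
/-- Lifting over a local ring. -/
theorem exists_lift_local (hp : ∀ a : A, a ∉ p → IsUnit a) :
    ∃ u : F ⟶ G, (Scheme.Modules.pullback g).map u = w := by
  obtain ⟨F', hp', a, s, ha, hs⟩ := exists_sec' hF hG p H h1 w
  obtain ⟨b, hb⟩ := (hp a ha).exists_left_inv
  have h3 : pullTop g (Groth.Agent.Ega3B.TensorASec.algSec A (⊤ : X.Opens) b • s) =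
      (1 : Γ(Z, ⊤)) • secOf g w := by
    refine (pullSec_smul g (Groth.Agent.Ega3B.TensorASec.algSec A (⊤ : X.Opens) b) s).trans ?_
    have h4 := Groth.Agent.Ega3B.SecLift.appLE_algSec H ⊤ (le_refl (g ⁻¹ᵁ ⊤)) b
    have h5 : g.app ⊤ (Groth.Agent.Ega3B.TensorASec.algSec A (⊤ : X.Opens) b) =
      secMap q (g ⁻¹ᵁ ⊤) (algebraMap A p.ResidueField b) := by
      rw [← h4, Scheme.Hom.app_eq_appLE]
    rw [h5]
    change secMap q ⊤ (algebraMap A p.ResidueField b) • pullTop g s = _
    rw [hs, smul_smul, ← map_mul, ← map_mul, hb, map_one, map_one]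
  obtain ⟨u, hu⟩ := exists_hom_of_sec g w _ _ h3
  refine ⟨u, ?_⟩
  rw [hu, act_one, Category.id_comp]

end Main

end Coh

end K45.HomLift
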