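import Mathlib.CategoryTheory.Monoidal.Rigid.Basic
import Groth.Agent.Dcoh.MonDual

/-!
# Homs out of a dualizable object and a monoidal functor
-/

set_option autoImplicit false

open CategoryTheory MonoidalCategory

namespace K45.MonLift

open Functor.LaxMonoidal Functor.OplaxMonoidal Functor.Monoidal

universe v v' u u'

variable {C : Type u} [Category.{v} C] [MonoidalCategory C] {D : Type u'} [Category.{v'} D]
  [MonoidalCategory D]

/-- The morphism `1 → N ⊗ E'` given by `E → N`. -/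
def cm (E E' : C) [ExactPairing E E'] {N : C} (w : E ⟶ N) : 𝟙_ C ⟶ N ⊗ E' :=
  η_ E E' ≫ w ▷ E'

theorem cm_eq (E E' : C) [ExactPairing E E'] {N : C} (w : E ⟶ N) :
    cm E E' w = tensorRightHomEquiv (𝟙_ C) E E' N ((λ_ E).hom ≫ w) := by
  rw [cm, tensorRightHomEquiv]
  have h : (ρ_ (𝟙_ C)).inv ≫ (λ_ (𝟙_ C)).hom = 𝟙 _ := by
    rw [unitors_equal, Iso.inv_hom_id]
  simp [reassoc_of% h]

theorem cm_injective (E E' : C) [ExactPairing E E'] {N : C} :
    Function.Injective (cm E E' (N := N)) := by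
  intro w w' h
  rw [cm_eq, cm_eq] at h
  exact (cancel_epi _).mp ((tensorRightHomEquiv (𝟙_ C) E E' N).injective h)

theorem cm_surjective (E E' : C) [ExactPairing E E'] {N : C} :
    Function.Surjective (cm E E' (N := N)) := by
  intro t
  refine ⟨(λ_ E).inv ≫ (tensorRightHomEquiv (𝟙_ C) E E' N).symm t, ?_⟩
  rw [cm_eq]
  simp

/-- Twisting by an endomorphism of the unit. -/
theorem comp_cm (E E' : C) [ExactPairing E E'] {N : C} (γ : 𝟙_ C ⟶ 𝟙_ C) (w : E ⟶ N) :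
    γ ≫ cm E E' w = cm E E' (((λ_ E).inv ≫ γ ▷ E ≫ (λ_ E).hom) ≫ w) := by
  apply (tensorRightHomEquiv (𝟙_ C) E E' N).symm.injective
  rw [tensorRightHomEquiv_symm_naturality, cm_eq, cm_eq, Equiv.symm_apply_apply,
    Equiv.symm_apply_apply]
  simp

variable (P : C ⥤ D) [P.Monoidal]

/-- The morphism `P 1 → P (N ⊗ E')` given by `w : P E → P N`. -/
def pm (E E' : C) [ExactPairing E E'] {N : C} (w : P.obj E ⟶ P.obj N) :
    P.obj (𝟙_ C) ⟶ P.obj (N ⊗ E') :=
  P.map (η_ E E') ≫ δ P E E' ≫ w ▷ P.obj E' ≫ μ P N E'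

theorem pm_map (E E' : C) [ExactPairing E E'] {N : C} (w : E ⟶ N) :
    pm P E E' (P.map w) = P.map (cm E E' w) := by
  rw [pm, cm, Functor.map_comp]
  simp

/-- `ε P ≫ pm w ≫ δ = cm w` -/
theorem pm_eq (E E' : C) [ExactPairing E E'] {N : C} (w : P.obj E ⟶ P.obj N) :
    letI := Groth.Agent.Dcoh.MonDual.mapExactPairing P E E'
    ε P ≫ pm P E E' w ≫ δ P N E' = cm (P.obj E) (P.obj E') w := by
  let := Groth.Agent.Dcoh.MonDual.mapExactPairing P E E'
  have h : η_ (P.obj E) (P.obj E') = ε P ≫ P.map (η_ E E') ≫ δ P E E' := rfl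
  rw [pm, cm, h]
  simp

/-- If `P v` is `pm w` up to an endomorphism of `P 1`, then `v = cm u` with `P u` equal to `w` up to
the same endomorphism. -/
theorem exists_hom (E E' : C) [ExactPairing E E'] {N : C} (w : P.obj E ⟶ P.obj N)
    (v : 𝟙_ C ⟶ N ⊗ E') (γ : 𝟙_ D ⟶ 𝟙_ D)
    (h : ε P ≫ P.map v = γ ≫ ε P ≫ pm P E E' w) :
    ∃ u : E ⟶ N, P.map u = ((λ_ (P.obj E)).inv ≫ γ ▷ P.obj E ≫ (λ_ (P.obj E)).hom) ≫ w := by
  let := Groth.Agent.Dcoh.MonDual.mapExactPairing P E E'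
  obtain ⟨u, rfl⟩ := cm_surjective E E' v
  refine ⟨u, ?_⟩
  apply cm_injective (P.obj E) (P.obj E')
  rw [← comp_cm, ← pm_eq, ← pm_eq, pm_map, ← Category.assoc, h]
  simp only [Category.assoc]

end K45.MonLift
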