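import Groth.Agent.Ega3B.EtAffine
import Groth.Agent.Ega3B.EqzSections
import Mathlib.RingTheory.RingHom.Etale
import Mathlib.RingTheory.LocalRing.Module

/-!
# Fibres over points of affine schemes, and étale fibre functions over a local base
-/

set_option autoImplicit false
universe u

open CategoryTheory CategoryTheory.Limits AlgebraicGeometry Opposite TopologicalSpace

namespace K45.EtSpec

open Groth.Agent.Ega3B.EqzSections

section Square

variable {A : Type u} [CommRing A] {X : Scheme.{u}} (f : X ⟶ Spec (CommRingCat.of A))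
  (y : Spec (CommRingCat.of A))

/-- The fibre over a point of `Spec A` as a base change to the residue field of the prime. -/
theorem exists_square :
    ∃ (q : f.fiber y ⟶ Spec (CommRingCat.of y.asIdeal.ResidueField))
      (σ : (Spec (CommRingCat.of A)).residueField y ≃+* y.asIdeal.ResidueField),
      IsPullback (f.fiberι y) q f (Spec.map (CommRingCat.ofHom
          (algebraMap A y.asIdeal.ResidueField))) ∧
      ∀ c : (Spec (CommRingCat.of A)).residueField y, secMap q ⊤ (σ c) =
        algebraMap ((Spec (CommRingCat.of A)).residueField y) Γ(f.fiber y, ⊤) c := by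
  let e : (Spec (CommRingCat.of A)).residueField y ≅ CommRingCat.of y.asIdeal.ResidueField :=
    Scheme.Spec.residueFieldIso (CommRingCat.of A) y
  have H : IsPullback (f.fiberι y) (f.fiberToSpecResidueField y) f
      ((Spec (CommRingCat.of A)).fromSpecResidueField y) := IsPullback.of_hasPullback _ _
  refine ⟨f.fiberToSpecResidueField y ≫ Spec.map e.inv, e.commRingCatIsoToRingEquiv, ?_, ?_⟩
  · refine IsPullback.of_iso H (Iso.refl _) (Iso.refl _) (Scheme.Spec.mapIso e.symm.op) (Iso.refl _)
      ?_ ?_ ?_ ?_
    · simp
    · simp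
      rfl
    · simp
    · rw [Iso.refl_hom, Category.comp_id]
      exact (Scheme.Spec.map_residueFieldIso_inv_eq_fromSpecResidueField (CommRingCat.of A) y).symm
  · intro c
    have h1 : (f.fiberToSpecResidueField y ≫ Spec.map e.inv).appLE ⊤ ⊤ (le_preimage_top _ _) =
        (Spec.map e.inv).appTop ≫ (f.fiberToSpecResidueField y).appTop := by
      rw [← Scheme.Hom.comp_appTop]
      exact (Scheme.Hom.app_eq_appLE _).symm
    have h2 : e.hom ≫ (Scheme.ΓSpecIso
        (CommRingCat.of y.asIdeal.ResidueField)).inv ≫ (Spec.map e.inv).appTop =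
        (Scheme.ΓSpecIso ((Spec (CommRingCat.of A)).residueField y)).inv := by
      rw [← Scheme.ΓSpecIso_inv_naturality, e.hom_inv_id_assoc]
    change ((f.fiberToSpecResidueField y ≫ Spec.map e.inv).appLE ⊤ ⊤ _).hom
      ((Scheme.ΓSpecIso (CommRingCat.of y.asIdeal.ResidueField)).inv.hom
        (e.hom.hom c)) =
      (f.fiberToSpecResidueField y).appTop.hom
        ((Scheme.ΓSpecIso ((Spec (CommRingCat.of A)).residueField y)).inv.hom c)
    rw [h1, ← h2]
    rfl

theorem etale_transfer (q : f.fiber y ⟶ Spec (CommRingCat.of y.asIdeal.ResidueField))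
    (σ : (Spec (CommRingCat.of A)).residueField y ≃+* y.asIdeal.ResidueField)
    (hσ : ∀ c : (Spec (CommRingCat.of A)).residueField y, secMap q ⊤ (σ c) =
        algebraMap ((Spec (CommRingCat.of A)).residueField y) Γ(f.fiber y, ⊤) c)
    (het : Algebra.Etale ((Spec (CommRingCat.of A)).residueField y) Γ(f.fiber y, ⊤)) :
    Algebra.Etale y.asIdeal.ResidueField (Sec q ⊤) := by
  have h0 : (algebraMap y.asIdeal.ResidueField (Sec q ⊤) : _ →+* Γ(f.fiber y, ⊤)) =
      (algebraMap ((Spec (CommRingCat.of A)).residueField y) Γ(f.fiber y, ⊤)).comp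
        (σ.symm : y.asIdeal.ResidueField →+* (Spec (CommRingCat.of A)).residueField y) := by
    refine RingHom.ext fun c => ?_
    obtain ⟨c, rfl⟩ := σ.surjective c
    refine (hσ c).trans ?_
    change _ = algebraMap ((Spec (CommRingCat.of A)).residueField y) Γ(f.fiber y, ⊤)
      (σ.symm (σ c))
    rw [σ.symm_apply_apply]
  rw [← RingHom.etale_algebraMap]
  have h1 : (algebraMap ((Spec (CommRingCat.of A)).residueField y) Γ(f.fiber y, ⊤)).Etale :=
    RingHom.etale_algebraMap.mpr het
  have h2 : (σ.symm : y.asIdeal.ResidueField →+*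
    (Spec (CommRingCat.of A)).residueField y).Etale := .of_bijective σ.symm.bijective
  have h3 := RingHom.Etale.stableUnderComposition _ _ h2 h1
  rw [← h0] at h3
  exact h3

end Square

section Alg

variable {A : Type u} [CommRing A]

/-- Localizing at a unit does nothing. -/
theorem mkLinearMap_bijective_of_isUnit (f : A) (hf : IsUnit f) (Q : Type u) [AddCommGroup Q]
    [Module A Q] : Function.Bijective (LocalizedModule.mkLinearMap (Submonoid.powers f) Q) := by
  have hS : ∀ s : Submonoid.powers f, IsUnit (s : A) := by
    rintro ⟨_, n, rfl⟩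
    exact hf.pow n
  constructor
  · rw [injective_iff_map_eq_zero]
    intro x hx
    rw [IsLocalizedModule.eq_zero_iff (Submonoid.powers f)] at hx
    obtain ⟨s, hs⟩ := hx
    exact (hS s).smul_eq_zero.mp hs
  · intro z
    induction z using LocalizedModule.induction_on with
    | h m s =>
      obtain ⟨u, hu⟩ := hS s
      refine ⟨(↑u⁻¹ : A) • m, ?_⟩
      rw [LocalizedModule.mkLinearMap_apply, LocalizedModule.mk_eq]
      refine ⟨1, ?_⟩
      rw [one_smul, one_smul, one_smul]
      change (s : A) • ((↑u⁻¹ : A) • m) = m
      rw [← hu, smul_smul, Units.mul_inv, one_smul]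

theorem free_of_free_away [IsNoetherianRing A] [IsLocalRing A] (f : A) (hf : IsUnit f)
    (Q : Type u) [AddCommGroup Q] [Module A Q] [Module.Finite A Q]
    (h : Module.Free (Localization.Away f) (LocalizedModule.Away f Q)) : Module.Free A Q := by
  have h1 : Module.Flat (Localization.Away f) (LocalizedModule.Away f Q) := inferInstance
  have h2 : Module.Flat A (Localization.Away f) := IsLocalization.flat _ (Submonoid.powers f)
  have h3 : Module.Flat A (LocalizedModule.Away f Q) :=
    Module.Flat.trans A (Localization.Away f) _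
  have h4 : Module.Flat A Q := Module.Flat.of_linearEquiv
    (LinearEquiv.ofBijective _ (mkLinearMap_bijective_of_isUnit f hf Q))
  exact Module.free_of_flat_of_isLocalRing

end Alg

end K45.EtSpec
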