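import Groth.Agent.CycB.FiberKer
import Groth.Agent.FlatA.FibreCrit
import Groth.Agent.PerfC.FlatExact
import Groth.Agent.CycB.GenPts
import Groth.Agent.CycB.CohStalk
import Groth.Agent.PerfA.CohSerre
import Groth.Agent.Fdesc.FlatBC

/-!
# Injectivity and surjectivity of morphisms of modules along a fibre

For `u : F → G` and a point `z` of the fibre `f⁻¹(y)`:
* `injective_stalk`: if `G` is flat over the base and `F` is coherent, injectivity of `u` restricted to the
  fibre at `z` implies injectivity of `u` at `z`;
* `surjective_stalk`: same for surjectivity (Nakayama);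
* the loci where `u` is injective, surjective are open.
-/

set_option autoImplicit false
universe u

open CategoryTheory CategoryTheory.Limits AlgebraicGeometry Opposite TopologicalSpace

namespace K45.FibreMono

open Groth.Agent Groth.Agent.Fdesc.PullbackStalk Groth.Agent.CycB.StalkExact

variable {X Y Z : Scheme.{u}}

section Can

variable (p : Z ⟶ X) (F : X.Modules) (z : Z) (hp : Function.Surjective (p.stalkMap z).hom)

include hp in
theorem canAdd_surjective : Function.Surjective (canAdd p F z) := by
  intro t
  have ht : t ∈ Submodule.span (Z.presheaf.stalk z) (Set.range (canAdd p F z)) := by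
    rw [span_range_canAdd]; trivial
  induction ht using Submodule.span_induction with
  | mem t ht => exact ht
  | zero => exact ⟨0, map_zero _⟩
  | add a b _ _ ha hb =>
    obtain ⟨a, rfl⟩ := ha
    obtain ⟨b, rfl⟩ := hb
    exact ⟨a + b, map_add _ _ _⟩
  | smul r a _ ha =>
    obtain ⟨a, rfl⟩ := ha
    obtain ⟨r, rfl⟩ := hp r
    exact ⟨r • a, canAdd_smul p F z r a⟩

include hp in
theorem mem_of_canAdd_eq_zero (t : F.presheaf.stalk (p z)) (ht : canAdd p F z t = 0) :
    t ∈ RingHom.ker (p.stalkMap z).hom •
      (⊤ : Submodule (X.presheaf.stalk (p z)) (F.presheaf.stalk (p z))) := by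
  let I := RingHom.ker (p.stalkMap z).hom
  let Q := F.presheaf.stalk (p z) ⧸ (I • (⊤ : Submodule (X.presheaf.stalk (p z))
    (F.presheaf.stalk (p z))))
  let σ : (X.presheaf.stalk (p z) ⧸ I) ≃+* Z.presheaf.stalk z :=
    RingHom.quotientKerEquivOfSurjective hp
  let _ : Module (Z.presheaf.stalk z) Q := Module.compHom Q σ.symm.toRingHom
  have hg : ∀ (r : X.presheaf.stalk (p z)) (t : F.presheaf.stalk (p z)),
      (Submodule.mkQ (I • (⊤ : Submodule (X.presheaf.stalk (p z))
        (F.presheaf.stalk (p z))))).toAddMonoidHom (r • t) =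
        p.stalkMap z r • (Submodule.mkQ (I • (⊤ : Submodule (X.presheaf.stalk (p z))
          (F.presheaf.stalk (p z))))).toAddMonoidHom t := by
    intro r t
    have hσ : σ.symm (p.stalkMap z r) = Ideal.Quotient.mk I r := by
      rw [RingEquiv.symm_apply_eq]
      rfl
    change _ = σ.symm (p.stalkMap z r) •
      (Submodule.mkQ (I • (⊤ : Submodule (X.presheaf.stalk (p z)) (F.presheaf.stalk (p z))))) t
    rw [hσ]
    rfl
  have h1 := lift_canAdd (M := F) (Q := Q) p _ hg t
  rw [ht, map_zero] at h1
  exact (Submodule.Quotient.mk_eq_zero _).mp h1.symm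

/-- `canAdd` is zero on `ker • F`. -/
theorem canAdd_eq_zero (t : F.presheaf.stalk (p z))
    (ht : t ∈ RingHom.ker (p.stalkMap z).hom •
      (⊤ : Submodule (X.presheaf.stalk (p z)) (F.presheaf.stalk (p z)))) :
    canAdd p F z t = 0 := by
  induction ht using Submodule.smul_induction_on' with
  | smul r hr m _ =>
    have hr' : p.stalkMap z r = 0 := hr
    rw [canAdd_smul, hr', zero_smul]
  | add a _ b _ ha hb => rw [map_add, ha, hb, add_zero]

end Can

/-- naturality of `canAdd` -/
theorem stalkLin_canAdd (p : Z ⟶ X) {F G : X.Modules} (u : F ⟶ G) (z : Z)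
    (t : F.presheaf.stalk (p z)) :
    stalkLin ((Scheme.Modules.pullback p).map u) z (canAdd p F z t) =
      canAdd p G z (stalkLin u (p z) t) :=
  stalkMap_pullback_canAdd p u z t

theorem surjective_stalk (p : Z ⟶ X) {F G : X.Modules} (hG : Coh.IsCoh G) (u : F ⟶ G) (z : Z)
    (hp : Function.Surjective (p.stalkMap z).hom)
    (h : Function.Surjective (stalkLin ((Scheme.Modules.pullback p).map u) z)) :
    Function.Surjective (stalkLin u (p z)) := by
  have := CycB.CohStalk.finite_stalk G hG (p z)
  rw [← LinearMap.range_eq_top]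
  have h0 : RingHom.ker (p.stalkMap z).hom ≤
      IsLocalRing.maximalIdeal (X.presheaf.stalk (p z)) := by
    intro a ha
    rw [IsLocalRing.mem_maximalIdeal]
    intro hu
    have h1 : IsUnit ((p.stalkMap z).hom a) := hu.map _
    rw [(RingHom.mem_ker).mp ha] at h1
    exact not_isUnit_zero h1
  refine top_le_iff.mp (Submodule.le_of_le_smul_of_le_jacobson_bot (I :=
    IsLocalRing.maximalIdeal (X.presheaf.stalk (p z))) ?_ ?_ ?_)
  · exact this.fg_top
  · rw [IsLocalRing.jacobson_eq_maximalIdeal _ bot_ne_top]
  · intro t _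
    obtain ⟨s', hs'⟩ := h (canAdd p G z t)
    obtain ⟨s, rfl⟩ := canAdd_surjective p F z hp s'
    rw [stalkLin_canAdd] at hs'
    have h1 : canAdd p G z (t - stalkLin u (p z) s) = 0 := by
      rw [map_sub, hs', sub_self]
    have h2 := mem_of_canAdd_eq_zero p G z hp _ h1
    have h3 : t = stalkLin u (p z) s + (t - stalkLin u (p z) s) := by abel
    rw [h3]
    exact Submodule.add_mem_sup ⟨s, rfl⟩ (Submodule.smul_mono_left h0 h2)

set_option backward.isDefEq.respectTransparency false in
theorem injective_stalk (f : X ⟶ Y) [IsLocallyNoetherian X] {F G : X.Modules}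
    (hF : Coh.IsCoh F) (hG : FlatMod.IsFlatOver f G) (u : F ⟶ G) (y : Y) (z : f.fiber y)
    (h : Function.Injective (stalkLin ((Scheme.Modules.pullback (f.fiberι y)).map u) z)) :
    Function.Injective (stalkLin u (f.fiberι y z)) := by
  have hfin := CycB.CohStalk.finite_stalk F hF (f.fiberι y z)
  let x := f.fiberι y z
  let a1 : Module (Y.presheaf.stalk (f x)) (F.presheaf.stalk x) := FlatMod.moduleStalkOver f F x
  let a2 : Module (Y.presheaf.stalk (f x)) (G.presheaf.stalk x) := FlatMod.moduleStalkOver f G x
  let a3 : Algebra (Y.presheaf.stalk (f x)) (X.presheaf.stalk x) := stalkAlg f x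
  have t1 : IsScalarTower (Y.presheaf.stalk (f x)) (X.presheaf.stalk x) (F.presheaf.stalk x) :=
    Fdesc.PullbackStalk.isScalarTower f F x
  have t2 : IsScalarTower (Y.presheaf.stalk (f x)) (X.presheaf.stalk x) (G.presheaf.stalk x) :=
    Fdesc.PullbackStalk.isScalarTower f G x
  have hfl : Module.Flat (Y.presheaf.stalk (f x)) (G.presheaf.stalk x) := hG x
  have hloc : IsLocalHom (algebraMap (Y.presheaf.stalk (f x)) (X.presheaf.stalk x)) :=
    inferInstanceAs (IsLocalHom (f.stalkMap x).hom)
  have hN : IsNoetherianRing (X.presheaf.stalk x) := inferInstance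
  let u' : F.presheaf.stalk x →ₗ[Y.presheaf.stalk (f x)] G.presheaf.stalk x :=
    (stalkLin u x).restrictScalars (Y.presheaf.stalk (f x))
  have hsurj := CycB.FiberKer.stalkMap_fiberι_surjective f y z
  have hker := CycB.FiberKer.ker_stalkMap_fiberι f y z
  refine (FlatA.FibreCrit.injective_and_flat_of_residue_injective (S := X.presheaf.stalk x)
    FlatA.FibreCrit.map_maximalIdeal_le_jacobson u' ?_).1
  refine FlatA.FibreCrit.lTensor_quotient_injective_of_comap_smul_le u'
    (IsLocalRing.maximalIdeal (Y.presheaf.stalk (f x))) ?_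
  intro t ht
  rw [Submodule.mem_comap, FlatA.FibreCrit.mem_smul_top_iff_of_isScalarTower
    (S := X.presheaf.stalk x)] at ht
  rw [FlatA.FibreCrit.mem_smul_top_iff_of_isScalarTower (S := X.presheaf.stalk x)]
  have e1 : (IsLocalRing.maximalIdeal (Y.presheaf.stalk (f x))).map
      (algebraMap (Y.presheaf.stalk (f x)) (X.presheaf.stalk x)) =
      RingHom.ker ((f.fiberι y).stalkMap z).hom := hker.symm
  rw [e1] at ht ⊢
  apply mem_of_canAdd_eq_zero (f.fiberι y) F z hsurj
  apply h
  rw [map_zero, stalkLin_canAdd]
  exact canAdd_eq_zero (f.fiberι y) G z _ ht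

section Open

variable {F G : X.Modules} (u : F ⟶ G)

theorem subsingleton_kernel_iff (x : X) :
    Subsingleton ((kernel u).presheaf.stalk x) ↔ Function.Injective (stalkLin u x) := by
  constructor
  · intro h
    have hex : Function.Exact (stalkLin (kernel.ι u) x) (stalkLin u x) :=
      stalkLin_exact (ShortComplex.mk (kernel.ι u) u (kernel.condition u))
        (ShortComplex.exact_of_f_is_kernel _ (kernelIsKernel u)) x
    rw [injective_iff_map_eq_zero]
    intro a ha
    obtain ⟨b, rfl⟩ := (hex a).mp ha
    rw [Subsingleton.elim b 0, map_zero]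
  · intro h
    refine ⟨fun a b => ?_⟩
    have key : ∀ a : (kernel u).presheaf.stalk x, a = 0 := by
      intro a
      apply stalkLin_injective (kernel.ι u) x
      apply h
      have : stalkLin u x (stalkLin (kernel.ι u) x a) = stalkLin (kernel.ι u ≫ u) x a := by
        rw [stalkLin_comp]; rfl
      rw [this, kernel.condition, map_zero, map_zero]
      change ((stalkFun x).map (0 : kernel u ⟶ G)).hom a = 0
      rw [Functor.map_zero]
      rfl
    rw [key a, key b]

theorem subsingleton_cokernel_iff (x : X) :
    Subsingleton ((cokernel u).presheaf.stalk x) ↔ Function.Surjective (stalkLin u x) := by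
  have hex : Function.Exact (stalkLin u x) (stalkLin (cokernel.π u) x) :=
    stalkLin_exact (ShortComplex.mk u (cokernel.π u) (cokernel.condition u))
      (ShortComplex.exact_of_g_is_cokernel _ (cokernelIsCokernel u)) x
  constructor
  · intro h a
    exact (hex a).mp (Subsingleton.elim _ _)
  · intro h
    refine ⟨fun a b => ?_⟩
    have key : ∀ a : (cokernel u).presheaf.stalk x, a = 0 := by
      intro a
      obtain ⟨a, rfl⟩ := stalkLin_surjective (cokernel.π u) x a
      exact (hex a).mpr (h a)
    rw [key a, key b]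

theorem isOpen_injective [IsLocallyNoetherian X] (hF : Coh.IsCoh F) (hG : Coh.IsCoh G) :
    IsOpen {x : X | Function.Injective (stalkLin u x)} := by
  have h := CycB.GenPts.isClosed_supp (PerfA.CohSerre.isCoh_kernel u hF hG.1)
  rw [← isOpen_compl_iff] at h
  convert h using 1
  ext x
  change Function.Injective (stalkLin u x) ↔ ¬ Nontrivial _
  rw [not_nontrivial_iff_subsingleton, subsingleton_kernel_iff]

theorem isOpen_surjective [IsLocallyNoetherian X] (hF : Coh.IsCoh F) (hG : Coh.IsCoh G) :
    IsOpen {x : X | Function.Surjective (stalkLin u x)} := by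
  have h := CycB.GenPts.isClosed_supp (PerfA.CohSerre.isCoh_cokernel u hF.1 hG)
  rw [← isOpen_compl_iff] at h
  convert h using 1
  ext x
  change Function.Surjective (stalkLin u x) ↔ ¬ Nontrivial _
  rw [not_nontrivial_iff_subsingleton, subsingleton_cokernel_iff]

end Open

end K45.FibreMono
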