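import Groth.Agent.Ega3A.LengthT
import Mathlib.RingTheory.Filtration
import Mathlib.LinearAlgebra.TensorProduct.Quotient

/-!
# Local criteria for `T_p(M) = H_p(P ⊗ M)` in terms of the quotients `A/m^(n+1)`

* `surjective_of_forall` : if `T_p(A/I^(n+1)) → T_p(A/I)` is surjective for all `n` then
  `T_p(A) → T_p(A/I)` is surjective (Artin-Rees).
* `preservesEpi_iff_forall_surjective`.
* `exact_iff_eventually_length`.
-/

set_option autoImplicit false
set_option backward.isDefEq.respectTransparency false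

universe u

open CategoryTheory CategoryTheory.Limits MonoidalCategory

namespace K45.LocalCrit

open Groth.Agent.Ega3A.TFunBasic Groth.Agent.Ega3A.LocalT Groth.Agent.Ega3A.LocalT2
  Groth.Agent.Ega3A.ArtinLength TensorProduct

section Alg

variable {A : Type u} [CommRing A]

/-- Artin-Rees lifting of kernels. -/
theorem exists_lift [IsNoetherianRing A] (I : Ideal A) {C L : Type u} [AddCommGroup C] [Module A C]
    [AddCommGroup L] [Module A L] [Module.Finite A L] (φ : C →ₗ[A] L) (x : C)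
    (h : ∀ n : ℕ, ∃ y : C, φ y ∈ I ^ (n + 1) • (⊤ : Submodule A L) ∧
      x - y ∈ I • (⊤ : Submodule A C)) :
    ∃ y : C, φ y = 0 ∧ x - y ∈ I • (⊤ : Submodule A C) := by
  obtain ⟨k, hk⟩ := I.exists_pow_inf_eq_pow_smul (LinearMap.range φ)
  obtain ⟨y, hy1, hy2⟩ := h k
  have h1 : φ y ∈ I ^ (k + 1) • (⊤ : Submodule A L) ⊓ LinearMap.range φ :=
    ⟨hy1, ⟨y, rfl⟩⟩
  rw [hk (k + 1) (Nat.le_succ k), Nat.add_sub_cancel_left, pow_one] at h1
  have h2 : φ y ∈ (I • (⊤ : Submodule A C)).map φ := by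
    rw [Submodule.map_smul'', Submodule.map_top]
    exact Submodule.smul_mono le_rfl inf_le_right h1
  obtain ⟨z, hz, hz'⟩ := h2
  refine ⟨y - z, by rw [map_sub, hz', sub_self], ?_⟩
  have : x - (y - z) = (x - y) + z := by abel
  rw [this]
  exact add_mem hy2 hz

theorem tmul_one_eq_zero_iff (I : Ideal A) {L : Type u} [AddCommGroup L] [Module A L] (y : L) :
    (y ⊗ₜ[A] (1 : A ⧸ I)) = 0 ↔ y ∈ I • (⊤ : Submodule A L) := by
  rw [← (tensorQuotEquivQuotSMul L I).map_eq_zero_iff]
  have : tensorQuotEquivQuotSMul L I (y ⊗ₜ[A] (1 : A ⧸ I)) =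
      Submodule.Quotient.mk y := by
    have := tensorQuotEquivQuotSMul_tmul_mk (M := L) I y 1
    rwa [one_smul, map_one] at this
  rw [this, Submodule.Quotient.mk_eq_zero]

theorem exists_tmul_one (I : Ideal A) {L : Type u} [AddCommGroup L] [Module A L]
    (w : L ⊗[A] (A ⧸ I)) : ∃ y : L, y ⊗ₜ[A] (1 : A ⧸ I) = w := by
  obtain ⟨y, hy⟩ := Submodule.Quotient.mk_surjective _ (tensorQuotEquivQuotSMul L I w)
  refine ⟨y, ?_⟩
  apply (tensorQuotEquivQuotSMul L I).injective
  rw [← hy]
  have := tensorQuotEquivQuotSMul_tmul_mk (M := L) I y 1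
  rwa [one_smul, map_one] at this

end Alg

section Surj

variable {A : Type u} [CommRing A] {ι : Type} {c : ComplexShape ι}
variable (P : HomologicalComplex (ModuleCat.{u} A) c)

/-- Surjectivity from all the truncations implies surjectivity from `A`. -/
theorem surjective_of_forall [IsNoetherianRing A] (I : Ideal A) {p q : ι} (hpq : c.Rel p q)
    [Module.Finite A (P.X q)]
    (h : ∀ n : ℕ, Function.Surjective ((CohIII.TFun P p).map (ModuleCat.ofHom
        (Ideal.Quotient.factorₐ A (Ideal.pow_le_self (I := I)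
          (Nat.succ_ne_zero n))).toLinearMap :
        ModuleCat.of A (A ⧸ I ^ (n + 1)) ⟶ ModuleCat.of A (A ⧸ I))).hom) :
    Function.Surjective ((CohIII.TFun P p).map (ModuleCat.ofHom
      (Algebra.linearMap A (A ⧸ I)))).hom := by
  intro w
  obtain ⟨x, hx⟩ := exists_tmul_one I ((ιTc P p (ModuleCat.of A (A ⧸ I))).hom w)
  obtain ⟨y, hy, hy'⟩ := exists_lift I (P.fromOpcycles p q).hom x (by
    intro n
    obtain ⟨wn, hwn⟩ := h n w
    obtain ⟨yn, hyn⟩ := exists_tmul_one (I ^ (n + 1))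
      ((ιTc P p (ModuleCat.of A (A ⧸ I ^ (n + 1)))).hom wn)
    refine ⟨yn, ?_, ?_⟩
    · rw [← tmul_one_eq_zero_iff]
      have h1 : (ιTc P p (ModuleCat.of A (A ⧸ I ^ (n + 1)))).hom wn ∈
          LinearMap.ker (LinearMap.rTensor (A ⧸ I ^ (n + 1)) (P.fromOpcycles p q).hom) := by
        have := ιTc_range P p (ModuleCat.of A (A ⧸ I ^ (n + 1))) q (c.next_eq' hpq)
        change _ ∈ LinearMap.ker (LinearMap.rTensor (ModuleCat.of A (A ⧸ I ^ (n + 1)))
          (P.fromOpcycles p q).hom)
        rw [← this]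
        exact ⟨wn, rfl⟩
      rw [← hyn] at h1
      exact h1
    · rw [← tmul_one_eq_zero_iff, TensorProduct.sub_tmul, sub_eq_zero, hx, ← hwn,
        ιTc_naturality_apply, ← hyn]
      change yn ⊗ₜ[A] (Ideal.Quotient.factorₐ A (Ideal.pow_le_self (I := I)
          (Nat.succ_ne_zero n)) 1) = _
      rw [map_one])
  have h2 : y ⊗ₜ[A] (1 : A) ∈ LinearMap.range (ιTc P p (ModuleCat.of A A)).hom := by
    rw [ιTc_range P p (ModuleCat.of A A) q (c.next_eq' hpq)]
    change (P.fromOpcycles p q).hom y ⊗ₜ[A] (1 : A) = 0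
    rw [hy, TensorProduct.zero_tmul]
  obtain ⟨v, hv⟩ := h2
  refine ⟨v, ?_⟩
  apply ιTc_injective
  rw [ιTc_naturality_apply, hv, ← hx]
  change y ⊗ₜ[A] (algebraMap A (A ⧸ I) 1) = _
  rw [map_one, eq_comm, ← sub_eq_zero, ← TensorProduct.sub_tmul, tmul_one_eq_zero_iff]
  exact hy'

/-- `T_p` preserves epimorphisms iff all the maps `T_p(A/m^(n+1)) → T_p(A/m)` are surjective. -/
theorem preservesEpi_iff_forall_surjective [IsNoetherianRing A] [IsLocalRing A]
    (hP : ∀ i, Module.Finite A (P.X i) ∧ Module.Flat A (P.X i)) {p q : ι} (hpq : c.Rel p q) :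
    (CohIII.TFun P p).PreservesEpimorphisms ↔
    (∀ n : ℕ, Function.Surjective ((CohIII.TFun P p).map (ModuleCat.ofHom
        (Ideal.Quotient.factorₐ A (Ideal.pow_le_self (I := IsLocalRing.maximalIdeal A)
          (Nat.succ_ne_zero n))).toLinearMap :
        ModuleCat.of A (A ⧸ IsLocalRing.maximalIdeal A ^ (n + 1)) ⟶
          ModuleCat.of A (A ⧸ IsLocalRing.maximalIdeal A))).hom) := by
  constructor
  · intro h n
    rw [← ModuleCat.epi_iff_surjective]
    have : Epi (ModuleCat.ofHom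
        (Ideal.Quotient.factorₐ A (Ideal.pow_le_self (I := IsLocalRing.maximalIdeal A)
          (Nat.succ_ne_zero n))).toLinearMap :
        ModuleCat.of A (A ⧸ IsLocalRing.maximalIdeal A ^ (n + 1)) ⟶
          ModuleCat.of A (A ⧸ IsLocalRing.maximalIdeal A)) := by
      rw [ModuleCat.epi_iff_surjective]
      exact Ideal.Quotient.factor_surjective (Ideal.pow_le_self (I := IsLocalRing.maximalIdeal A)
        (Nat.succ_ne_zero n))
    exact h.preserves _
  · intro h
    rw [preservesEpi_iff_surjective P hP p q hpq]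
    have := (hP q).1
    exact surjective_of_forall P (IsLocalRing.maximalIdeal A) hpq h

end Surj

end K45.LocalCrit
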