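import Groth.Agent.Ega3A.LengthT
import Groth.Agent.Coherent.K45.LocalCrit
import Mathlib.RingTheory.Filtration
import Mathlib.RingTheory.HopkinsLevitzki
import Mathlib.RingTheory.Ideal.KrullsHeightTheorem

/-!
# Length criterion for exactness of `T_p(M) = H_p(P ⊗ M)` over a Noetherian local ring
-/

set_option autoImplicit false
set_option backward.isDefEq.respectTransparency false

universe u

open CategoryTheory CategoryTheory.Limits MonoidalCategory

namespace K45.LengthCrit

open Groth.Agent.Ega3A.TFunBasic Groth.Agent.Ega3A.LocalT Groth.Agent.Ega3A.LocalT2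
  Groth.Agent.Ega3A.ArtinLength TensorProduct IsLocalRing

section Alg

variable {A : Type u} [CommRing A] [IsLocalRing A]

theorem isArtinianRing_quotient_pow [IsNoetherianRing A] (n : ℕ) :
    IsArtinianRing (A ⧸ (maximalIdeal A) ^ (n + 1)) := by
  apply IsLocalRing.quotient_artinian_of_mem_minimalPrimes_of_isLocalRing
  rw [Ideal.minimalPrimes, Set.mem_ofPred]
  refine ⟨⟨inferInstance, Ideal.pow_le_self n.succ_ne_zero⟩, ?_⟩
  rintro J ⟨hJ, hJ'⟩ -
  exact (hJ.pow_le_iff n.succ_ne_zero).mp hJ'

theorem length_quotient_pow_ne_top [IsNoetherianRing A] (n : ℕ) :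
    Module.length A (A ⧸ (maximalIdeal A) ^ (n + 1)) ≠ ⊤ := by
  have := isArtinianRing_quotient_pow (A := A) n
  rw [Module.length_eq_of_surjective (M := A ⧸ (maximalIdeal A) ^ (n + 1))
    (R := A ⧸ (maximalIdeal A) ^ (n + 1)) (S := A) Ideal.Quotient.mk_surjective]
  exact Module.length_ne_top

omit [IsLocalRing A] in
theorem length_pi_tensor (d : ℕ) (M : Type u) [AddCommGroup M] [Module A M] :
    Module.length A ((Fin d → A) ⊗[A] M) = d * Module.length A M := by
  have e : (Fin d → A) ⊗[A] M ≃ₗ[A] (Fin d → M) :=
    (TensorProduct.comm A _ _).trans (TensorProduct.piScalarRight A A M (Fin d))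
  rw [e.length_eq, Module.length_pi]
  simp

theorem length_residue_ne_top (Z : Type u) [AddCommGroup Z] [Module A Z] [Module.Finite A Z] :
    Module.length A (Z ⊗[A] ResidueField A) ≠ ⊤ := by
  rw [length_residue_tensor]
  exact ENat.natCast_ne_top _

theorem length_tensor_le (Z : Type u) [AddCommGroup Z] [Module A Z] [Module.Finite A Z]
    (M : Type u) [AddCommGroup M] [Module A M] :
    Module.length A (Z ⊗[A] M) ≤
      Module.length A (Z ⊗[A] ResidueField A) * Module.length A M := by
  obtain ⟨g, hg⟩ := exists_surjective (A := A) Z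
  refine (Module.length_le_of_surjective (g.rTensor M) (LinearMap.rTensor_surjective M hg)).trans ?_
  rw [length_pi_tensor, length_residue_tensor]

theorem length_tensor_eq_of_flat (Z : Type u) [AddCommGroup Z] [Module A Z] [Module.Finite A Z]
    [Module.Flat A Z] (M : Type u) [AddCommGroup M] [Module A M] :
    Module.length A (Z ⊗[A] M) =
      Module.length A (Z ⊗[A] ResidueField A) * Module.length A M := by
  have : Module.Free A Z := Module.free_of_flat_of_isLocalRing
  let e : Z ≃ₗ[A] (Fin (Module.finrank A Z) → A) := (Module.finBasis A Z).equivFun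
  rw [(LinearEquiv.rTensor M e).length_eq, length_pi_tensor, length_residue_tensor,
    Module.finrank_baseChange]

omit [IsLocalRing A] in
theorem length_ker_add {N N' : Type u} [AddCommGroup N] [Module A N] [AddCommGroup N'] [Module A N']
    (g : N →ₗ[A] N') (hg : Function.Surjective g) :
    Module.length A N = Module.length A (LinearMap.ker g) + Module.length A N' :=
  Module.length_eq_add_of_exact (LinearMap.ker g).subtype g (Submodule.injective_subtype _) hg
    (LinearMap.exact_subtype_ker_map g)

theorem flat_of_length_eq [IsNoetherianRing A] (Z : Type u) [AddCommGroup Z] [Module A Z]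
    [Module.Finite A Z] (n₀ : ℕ)
    (h : ∀ n : ℕ, n₀ ≤ n → Module.length A (Z ⊗[A] (A ⧸ (maximalIdeal A) ^ (n + 1))) =
      Module.length A (Z ⊗[A] ResidueField A) * Module.length A (A ⧸ (maximalIdeal A) ^ (n + 1))) :
    Module.Flat A Z := by
  obtain ⟨g, hg⟩ := exists_surjective (A := A) Z
  have key : ∀ n : ℕ, n₀ ≤ n → Function.Injective (g.rTensor (A ⧸ (maximalIdeal A) ^ (n + 1))) := by
    intro n hn
    have hs := LinearMap.rTensor_surjective (A ⧸ (maximalIdeal A) ^ (n + 1)) hg
    have h1 := length_ker_add (g.rTensor (A ⧸ (maximalIdeal A) ^ (n + 1))) hs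
    rw [length_pi_tensor, h n hn, length_residue_tensor] at h1
    have h2 : Module.length A
        (LinearMap.ker (g.rTensor (A ⧸ (maximalIdeal A) ^ (n + 1)))) = 0 := by
      have h3 : (Module.finrank (ResidueField A) (ResidueField A ⊗[A] Z) : ℕ∞) *
          Module.length A (A ⧸ (maximalIdeal A) ^ (n + 1)) ≠ ⊤ :=
        WithTop.mul_ne_top (ENat.natCast_ne_top _) (length_quotient_pow_ne_top n)
      have h4 : (0 : ℕ∞) + _ =
        Module.length A (LinearMap.ker (g.rTensor (A ⧸ (maximalIdeal A) ^ (n + 1)))) + _ :=
        (zero_add _).trans h1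
      exact (WithTop.add_right_cancel h3 h4).symm
    rw [← LinearMap.ker_eq_bot]
    rw [Module.length_eq_zero_iff] at h2
    exact (Submodule.subsingleton_iff_eq_bot).mp h2
  have hinj : Function.Injective g := by
    rw [injective_iff_map_eq_zero]
    intro x hx
    have hmem : ∀ n : ℕ, x ∈ (maximalIdeal A) ^ n •
        (⊤ : Submodule A (Fin (Module.finrank (ResidueField A) (ResidueField A ⊗[A] Z)) → A)) := by
      intro n
      have h1 : x ⊗ₜ[A] (1 : A ⧸ (maximalIdeal A) ^ (max n n₀ + 1)) = 0 := by
        apply key (max n n₀) (le_max_right _ _)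
        rw [LinearMap.rTensor_tmul, hx, zero_tmul, map_zero]
      rw [LocalCrit.tmul_one_eq_zero_iff] at h1
      exact Submodule.smul_mono_left (Ideal.pow_le_pow_right
        ((le_max_left n n₀).trans (Nat.le_succ _))) h1
    have hbot := Ideal.iInf_pow_smul_eq_bot_of_isLocalRing (I := maximalIdeal A)
      (M := (Fin (Module.finrank (ResidueField A) (ResidueField A ⊗[A] Z)) → A))
      (Ideal.IsPrime.ne_top inferInstance)
    have h2 : x ∈ (⨅ i : ℕ, (maximalIdeal A) ^ i •
        (⊤ : Submodule A (Fin (Module.finrank (ResidueField A) (ResidueField A ⊗[A] Z)) → A))) :=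
      (Submodule.mem_iInf _).2 hmem
    rw [hbot] at h2
    exact h2
  exact Module.Flat.of_linearEquiv (LinearEquiv.ofBijective g ⟨hinj, hg⟩).symm

end Alg

section Main

variable {A : Type u} [CommRing A] [IsLocalRing A] [IsNoetherianRing A] {ι : Type}
  {c : ComplexShape ι} (P : HomologicalComplex (ModuleCat.{u} A) c)

/-- `T_p` is exact iff `length T_p(A/m^(n+1)) = length T_p(k) * length(A/m^(n+1))` for large `n`. -/
theorem exact_iff_eventually_length
    (hP : ∀ i, Module.Finite A (P.X i) ∧ Module.Flat A (P.X i)) {p q : ι} (hpq : c.Rel p q) :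
    ((CohIII.TFun P p).PreservesMonomorphisms ∧ (CohIII.TFun P p).PreservesEpimorphisms) ↔
      ∃ n₀ : ℕ, ∀ n : ℕ, n₀ ≤ n →
      Module.length A ((CohIII.TFun P p).obj (ModuleCat.of A (A ⧸ (maximalIdeal A) ^ (n + 1)))) =
        Module.length A ((CohIII.TFun P p).obj (ModuleCat.of A (IsLocalRing.ResidueField A))) *
          Module.length A (A ⧸ (maximalIdeal A) ^ (n + 1)) := by
  have hPf := fun i => (hP i).2
  have hPfin := fun i => (hP i).1
  have e2 := Groth.Agent.Ega3A.LengthT.length_formula P hpq (ModuleCat.of A (IsLocalRing.ResidueField A))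
  change Module.length A (P.opcycles p ⊗[A] IsLocalRing.ResidueField A) +
    Module.length A (P.opcycles q ⊗[A] IsLocalRing.ResidueField A) =
      _ + Module.length A (P.X q ⊗[A] IsLocalRing.ResidueField A) at e2
  have e1 : ∀ n : ℕ, Module.length A (P.opcycles p ⊗[A] (A ⧸ (maximalIdeal A) ^ (n + 1))) +
      Module.length A (P.opcycles q ⊗[A] (A ⧸ (maximalIdeal A) ^ (n + 1))) =
      Module.length A ((CohIII.TFun P p).obj (ModuleCat.of A (A ⧸ (maximalIdeal A) ^ (n + 1)))) +
        Module.length A (P.X q ⊗[A] ResidueField A) *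
          Module.length A (A ⧸ (maximalIdeal A) ^ (n + 1)) := by
    intro n
    rw [← length_tensor_eq_of_flat (P.X q) (A ⧸ (maximalIdeal A) ^ (n + 1))]
    exact Groth.Agent.Ega3A.LengthT.length_formula P hpq
      (ModuleCat.of A (A ⧸ (maximalIdeal A) ^ (n + 1)))
  have t4 := length_residue_ne_top (A := A) (P.opcycles p)
  have t5 := length_residue_ne_top (A := A) (P.opcycles q)
  have t6 := length_residue_ne_top (A := A) (P.X q)
  rw [preservesEpi_iff_preservesMono P hPf p q hpq, preservesMono_iff_flat P q _ rfl,
    preservesMono_iff_flat P p _ rfl]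
  constructor
  · rintro ⟨h1, h2⟩
    refine ⟨0, fun n _ => ?_⟩
    have e3 := e1 n
    rw [length_tensor_eq_of_flat (P.opcycles p) (A ⧸ (maximalIdeal A) ^ (n + 1)),
      length_tensor_eq_of_flat (P.opcycles q) (A ⧸ (maximalIdeal A) ^ (n + 1))] at e3
    have t7 := length_quotient_pow_ne_top (A := A) n
    generalize Module.length A (P.opcycles p ⊗[A] IsLocalRing.ResidueField A) = a' at *
    generalize Module.length A (P.opcycles q ⊗[A] IsLocalRing.ResidueField A) = b' at *
    generalize Module.length A (P.X q ⊗[A] IsLocalRing.ResidueField A) = n' at *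
    generalize Module.length A (A ⧸ (maximalIdeal A) ^ (n + 1)) = L at *
    generalize Module.length A
      ((CohIII.TFun P p).obj (ModuleCat.of A (A ⧸ (maximalIdeal A) ^ (n + 1)))) = t at *
    generalize Module.length A
      ((CohIII.TFun P p).obj (ModuleCat.of A (IsLocalRing.ResidueField A))) = d at *
    lift a' to ℕ using t4
    lift b' to ℕ using t5
    lift n' to ℕ using t6
    lift L to ℕ using t7
    have t8 : t ≠ ⊤ := by
      rintro rfl
      rw [top_add] at e3
      exact (ENat.natCast_ne_top _) (by exact_mod_cast e3)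
    have t9 : d ≠ ⊤ := by
      rintro rfl
      rw [top_add] at e2
      exact (ENat.natCast_ne_top _) (by exact_mod_cast e2)
    lift t to ℕ using t8
    lift d to ℕ using t9
    norm_cast at *
    nlinarith
  · rintro ⟨n₀, hn₀⟩
    have key : ∀ n : ℕ, n₀ ≤ n →
        Module.length A (P.opcycles p ⊗[A] (A ⧸ (maximalIdeal A) ^ (n + 1))) =
          Module.length A (P.opcycles p ⊗[A] ResidueField A) *
            Module.length A (A ⧸ (maximalIdeal A) ^ (n + 1)) ∧
        Module.length A (P.opcycles q ⊗[A] (A ⧸ (maximalIdeal A) ^ (n + 1))) =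
          Module.length A (P.opcycles q ⊗[A] ResidueField A) *
            Module.length A (A ⧸ (maximalIdeal A) ^ (n + 1)) := by
      intro n hn
      have e3 := e1 n
      rw [hn₀ n hn] at e3
      have t7 := length_quotient_pow_ne_top (A := A) n
      have l1 := length_tensor_le (A := A) (P.opcycles p) (A ⧸ (maximalIdeal A) ^ (n + 1))
      have l2 := length_tensor_le (A := A) (P.opcycles q) (A ⧸ (maximalIdeal A) ^ (n + 1))
      generalize Module.length A (P.opcycles p ⊗[A] (A ⧸ (maximalIdeal A) ^ (n + 1))) = a at *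
      generalize Module.length A (P.opcycles q ⊗[A] (A ⧸ (maximalIdeal A) ^ (n + 1))) = b at *
      generalize Module.length A (P.opcycles p ⊗[A] IsLocalRing.ResidueField A) = a' at *
      generalize Module.length A (P.opcycles q ⊗[A] IsLocalRing.ResidueField A) = b' at *
      generalize Module.length A (P.X q ⊗[A] IsLocalRing.ResidueField A) = n' at *
      generalize Module.length A (A ⧸ (maximalIdeal A) ^ (n + 1)) = L at *
      generalize Module.length A
        ((CohIII.TFun P p).obj (ModuleCat.of A (IsLocalRing.ResidueField A))) = d at *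
      lift a' to ℕ using t4
      lift b' to ℕ using t5
      lift n' to ℕ using t6
      lift L to ℕ using t7
      have t9 : d ≠ ⊤ := by
        rintro rfl
        rw [top_add] at e2
        exact (ENat.natCast_ne_top _) (by exact_mod_cast e2)
      have t10 : a ≠ ⊤ := ne_top_of_le_ne_top (WithTop.mul_ne_top (ENat.natCast_ne_top _)
        (ENat.natCast_ne_top _)) l1
      have t11 : b ≠ ⊤ := ne_top_of_le_ne_top (WithTop.mul_ne_top (ENat.natCast_ne_top _)
        (ENat.natCast_ne_top _)) l2
      lift d to ℕ using t9
      lift a to ℕ using t10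
      lift b to ℕ using t11
      norm_cast at *
      constructor <;> nlinarith
    exact ⟨flat_of_length_eq _ n₀ fun n hn => (key n hn).1,
      flat_of_length_eq _ n₀ fun n hn => (key n hn).2⟩

end Main

end K45.LengthCrit
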