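import Mathlib.RingTheory.Invariant.Galois
import Mathlib.FieldTheory.Normal.Closure
import Mathlib.FieldTheory.IsAlgClosed.AlgebraicClosure
import Mathlib.FieldTheory.PurelyInseparable.Basic
import Mathlib.FieldTheory.SeparableClosure
import Mathlib.LinearAlgebra.FreeModule.Finite.Matrix
import Mathlib.RingTheory.Spectrum.Maximal.Basic
import Mathlib.RingTheory.Ideal.GoingUp
import Mathlib.FieldTheory.AlgebraicClosure
import Mathlib.FieldTheory.Galois.Basic

/-!
# Number of maximal ideals of an integral closure of a normal local domain
-/

set_option autoImplicit false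

namespace K45.MaxCount

open Module

attribute [local instance] ringExpChar.expChar

section Normal

variable {A : Type*} [CommRing A] [IsDomain A] [IsIntegrallyClosed A] [IsLocalRing A]
  (K : Type*) [Field K] [Algebra A K] [IsFractionRing A K]
  {S : Type*} [Field S] [Algebra K S]
  [Algebra A S] [IsScalarTower A K S]

/-- For a normal local domain `A` and a finite separable extension `S` of its field of fractions,
the maximal ideals of the integral closure of `A` in `S` inject into the embeddings of `S` in a
Galois closure. -/
theorem exists_injective (N : Type*) [Field N] [Algebra K N] [FiniteDimensional K N] [IsGalois K N]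
    [Algebra S N] [IsScalarTower K S N] :
    ∃ i : MaximalSpectrum (integralClosure A S) → (S →ₐ[K] N), Function.Injective i := by
  let _ : Algebra A N := ((algebraMap K N).comp (algebraMap A K)).toAlgebra
  have t1 : IsScalarTower A K N := IsScalarTower.of_algebraMap_eq fun _ => rfl
  have t2 : IsScalarTower A S N := IsScalarTower.of_algebraMap_eq fun a => by
    rw [IsScalarTower.algebraMap_apply A K S, ← IsScalarTower.algebraMap_apply K S N]
    rfl
  let M := integralClosure A N
  have hfrac : IsFractionRing M N :=
    integralClosure.isFractionRing_of_finite_extension K N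
  have hinv : Algebra.IsInvariant A M (M ≃ₐ[A] M) := Algebra.isInvariant_of_isGalois' A K N M
  have hfin : Finite (M ≃ₐ[A] M) := Finite.of_equiv _ (galRestrict A K N M).toEquiv
  obtain ⟨Q, hQ⟩ := Ideal.exists_maximal M
  let j : integralClosure A S →ₐ[A] M :=
    { toFun := fun s => ⟨algebraMap S N s.1, s.2.map (IsScalarTower.toAlgHom A S N)⟩
      map_one' := by ext; simp
      map_mul' := fun x y => by ext; simp
      map_zero' := by ext; simp
      map_add' := fun x y => by ext; simp
      commutes' := fun a => by
        ext
        exact (IsScalarTower.algebraMap_apply A S N a).symm }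
  have hMint : Algebra.IsIntegral A M := inferInstance
  have hjint : j.toRingHom.IsIntegral := by
    intro x
    obtain ⟨p, hp, hpx⟩ := hMint.isIntegral x
    refine ⟨p.map (algebraMap A _), hp.map _, ?_⟩
    rw [Polynomial.eval₂_map]
    convert hpx
    ext a
    exact congrArg Subtype.val (j.commutes a)
  let _ : Algebra (integralClosure A S) M := j.toRingHom.toAlgebra
  have hjint' : Algebra.IsIntegral (integralClosure A S) M := ⟨hjint⟩
  have key : ∀ q : MaximalSpectrum (integralClosure A S), ∃ τ : S →ₐ[K] N,
      ∀ s : integralClosure A S, s ∈ q.asIdeal ↔ ∃ m ∈ Q, (m : N) = τ s.1 := by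
    intro q
    have hq := q.isMaximal
    obtain ⟨Q', hQ', hQq⟩ := Ideal.exists_ideal_over_maximal_of_isIntegral (S := M) q.asIdeal (by
        intro x hx
        have : x = 0 := by
          have h := congrArg Subtype.val ((RingHom.mem_ker).mp hx)
          exact Subtype.ext ((algebraMap S N).injective (h.trans (map_zero _).symm))
        rw [this]
        exact zero_mem _)
    have hunder : Q.under A = Q'.under A :=
      (IsLocalRing.eq_maximalIdeal
        (Ideal.isMaximal_comap_of_isIntegral_of_isMaximal (R := A) Q)).trans
      (IsLocalRing.eq_maximalIdeal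
        (Ideal.isMaximal_comap_of_isIntegral_of_isMaximal (R := A) Q')).symm
    obtain ⟨g, hg⟩ := Algebra.IsInvariant.exists_smul_of_under_eq A M (M ≃ₐ[A] M) Q Q' hunder
    let σ := (galRestrict A K N M).symm g⁻¹
    have hσ : galRestrict A K N M σ = g⁻¹ := (galRestrict A K N M).apply_symm_apply _
    have hval : ∀ s : integralClosure A S, ((g⁻¹ • j s : M) : N) = σ (algebraMap S N s.1) := by
      intro s
      have h := algebraMap_galRestrict_apply A σ (j s)
      rw [hσ] at h
      exact h
    refine ⟨(σ : N →ₐ[K] N).comp (IsScalarTower.toAlgHom K S N), fun s => ?_⟩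
    have h1 : s ∈ q.asIdeal ↔ j s ∈ Q' := by
      rw [← hQq]
      rfl
    rw [h1, hg, Ideal.mem_pointwise_smul_iff_inv_smul_mem]
    constructor
    · intro h
      exact ⟨_, h, hval s⟩
    · rintro ⟨m, hm, hms⟩
      have h2 : m = g⁻¹ • j s := Subtype.ext (hms.trans (hval s).symm)
      rwa [← h2]
  choose τ hτ using key
  refine ⟨τ, fun q q' h => ?_⟩
  ext s
  rw [hτ, hτ, h]

end Normal

section Unibranch

universe u v

variable {O : Type u} [CommRing O] [IsDomain O] {K : Type v} [Field K] [Algebra O K]
  [IsFractionRing O K]

theorem isIntegrallyClosed_integralClosure : IsIntegrallyClosed (integralClosure O K) := by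
  have hf : IsFractionRing (integralClosure O K) K :=
    integralClosure.isFractionRing_of_finite_extension K K
  rw [isIntegrallyClosed_iff K]
  intro x hx
  have h : IsIntegral O x := isIntegral_trans x hx
  exact ⟨⟨x, h⟩, rfl⟩

/-- An injection of maximal spectra. -/
theorem comap_injective {C D : Type*} [CommRing C] [CommRing D] (j : D →+* C) (hj : j.IsIntegral)
    (h : ∀ x : C, ∃ n : ℕ, 0 < n ∧ x ^ n ∈ Set.range j) :
    ∃ i : MaximalSpectrum C → MaximalSpectrum D, Function.Injective i := by
  refine ⟨fun q => ⟨q.asIdeal.comap j,
    letI := q.isMaximal; Ideal.isMaximal_comap_of_isIntegral_of_isMaximal' j hj q.asIdeal⟩, ?_⟩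
  intro q q' hqq
  have hqq' : q.asIdeal.comap j = q'.asIdeal.comap j := congrArg MaximalSpectrum.asIdeal hqq
  have key : ∀ q q' : MaximalSpectrum C, q.asIdeal.comap j = q'.asIdeal.comap j →
      ∀ x ∈ q.asIdeal, x ∈ q'.asIdeal := by
    intro q q' hqq x hx
    obtain ⟨n, hn, d, hd⟩ := h x
    have h1 : d ∈ q'.asIdeal.comap j := by
      rw [← hqq, Ideal.mem_comap, hd]
      exact Ideal.pow_mem_of_mem _ hx n hn
    rw [Ideal.mem_comap, hd] at h1
    exact q'.isMaximal.isPrime.mem_of_pow_mem n h1
  ext x
  exact ⟨key q q' hqq' x, key q' q hqq'.symm x⟩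

theorem card_maximalSpectrum_le {L : Type v} [Field L] [Algebra K L] [Algebra O L]
    [IsScalarTower O K L] (hloc : IsLocalRing (integralClosure O K)) (n : ℕ) (hn0 : 0 < n)
    (hn : Field.finSepDegree K ↥(algebraicClosure K L) = n) :
    Finite (MaximalSpectrum (integralClosure O L)) ∧
      Nat.card (MaximalSpectrum (integralClosure O L)) ≤ n := by
  let A := integralClosure O K
  have hA : IsIntegrallyClosed A := isIntegrallyClosed_integralClosure
  have hf : IsFractionRing A K := integralClosure.isFractionRing_of_finite_extension K K
  let E := algebraicClosure K L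
  let S := separableClosure K E
  have hE : Algebra.IsAlgebraic K E := inferInstance
  have hrank : Module.finrank K S = n := by
    rw [← hn, Field.finSepDegree_eq]
    rfl
  have hfd : FiniteDimensional K S := by
    apply FiniteDimensional.of_finrank_pos
    rw [hrank]
    exact hn0
  have hsep : Algebra.IsSeparable K S := inferInstance
  let _ : Algebra S (SeparableClosure K) :=
    (IsSepClosed.lift : S →ₐ[K] SeparableClosure K).toRingHom.toAlgebra
  have tS : IsScalarTower K S (SeparableClosure K) := IsScalarTower.of_algebraMap_eq fun x =>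
    ((IsSepClosed.lift : S →ₐ[K] SeparableClosure K).commutes x).symm
  let N := IntermediateField.normalClosure K S (SeparableClosure K)
  have hgal : IsGalois K N := IsGalois.normalClosure K S (SeparableClosure K)
  obtain ⟨i, hi⟩ := exists_injective (A := A) K (S := S) N
  -- elements of `S` integral over `A` are integral over `O`
  have hint : ∀ s : integralClosure A S, IsIntegral O ((s.1 : E) : L) := by
    intro s
    have t1 : IsScalarTower O A L := IsScalarTower.of_algebraMap_eq fun o => by
      rw [IsScalarTower.algebraMap_apply O K L]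
      rfl
    have h1 : IsIntegral A ((s.1 : E) : L) := by
      obtain ⟨p, hp, hps⟩ := s.2
      refine ⟨p, hp, ?_⟩
      have h2 := congrArg (fun z : S => ((z : E) : L)) hps
      have h3 : (algebraMap E L).comp (algebraMap S E) (Polynomial.eval₂ (algebraMap A S) s.1 p) =
        0 := h2
      rw [Polynomial.hom_eval₂] at h3
      exact h3
    exact isIntegral_trans _ h1
  let j : integralClosure A S →+* integralClosure O L :=
    { toFun := fun s => ⟨((s.1 : E) : L), hint s⟩
      map_one' := rfl
      map_mul' := fun _ _ => rfl
      map_zero' := rfl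
      map_add' := fun _ _ => rfl }
  have hj : j.IsIntegral := by
    intro x
    obtain ⟨p, hp, hpx⟩ := x.2
    let ψ : O →+* integralClosure A S :=
      (algebraMap A (integralClosure A S)).comp (algebraMap O A)
    refine ⟨p.map ψ, hp.map _, ?_⟩
    rw [Polynomial.eval₂_map]
    have h1 : (algebraMap (integralClosure O L) L) (Polynomial.eval₂ (j.comp ψ) x p) = 0 := by
      rw [Polynomial.hom_eval₂]
      convert hpx using 1
      congr 1
      ext o
      exact (IsScalarTower.algebraMap_apply O K L o).symm
    exact Subtype.ext h1
  have hpow : ∀ x : integralClosure O L, ∃ n : ℕ, 0 < n ∧ x ^ n ∈ Set.range j := by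
    intro x
    have hxK : IsIntegral K (x : L) := x.2.tower_top
    let x' : E := ⟨x.1, (mem_algebraicClosure_iff (F := K)).mpr hxK.isAlgebraic⟩
    obtain ⟨m, s, hs⟩ := IsPurelyInseparable.pow_mem (F := S) (ringExpChar K) x'
    have hs' : (s : E) = x' ^ ringExpChar K ^ m := hs
    have hq : 0 < ringExpChar K ^ m := pow_pos (expChar_pos K (ringExpChar K)) m
    have hsint : IsIntegral A s := by
      have h1 : IsIntegral O ((s : E) : L) := by
        have h2 : ((s : E) : L) = (x : L) ^ ringExpChar K ^ m := by
          rw [hs']
          rfl
        rw [h2]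
        exact IsIntegral.pow x.2 _
      obtain ⟨p, hp, hps⟩ := h1
      refine ⟨p.map (algebraMap O A), hp.map _, ?_⟩
      rw [Polynomial.eval₂_map]
      apply ((algebraMap E L).comp (algebraMap S E)).injective
      rw [Polynomial.hom_eval₂, map_zero]
      have h3 : (((algebraMap E L).comp (algebraMap S E)).comp
          ((algebraMap A S).comp (algebraMap O A))) = algebraMap O L := by
        ext o
        exact (IsScalarTower.algebraMap_apply O K L o).symm
      rw [h3]
      exact hps
    refine ⟨ringExpChar K ^ m, hq, ⟨s, hsint⟩, ?_⟩
    apply Subtype.ext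
    change ((s : E) : L) = (x : L) ^ ringExpChar K ^ m
    rw [hs']
    rfl
  obtain ⟨i', hi'⟩ := comap_injective j hj hpow
  have hfin : Finite (S →ₐ[K] N) := inferInstance
  refine ⟨Finite.of_injective _ (hi.comp hi'), ?_⟩
  refine (Nat.card_le_card_of_injective _ (hi.comp hi')).trans ?_
  rw [← hrank]
  exact card_algHom_le_finrank K S N

end Unibranch

end K45.MaxCount
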