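import Groth.Agent.Coherent.K45.HomLift
import Groth.Agent.Coherent.K45.FibreMono
import Groth.Agent.Ega3B.NearFibre

/-!
# Finite locally free modules isomorphic on a fibre
-/

set_option autoImplicit false
universe u

open CategoryTheory CategoryTheory.Limits AlgebraicGeometry Opposite TopologicalSpace
open MonoidalCategory

namespace K45.NearIso

open Groth.Agent Groth.Agent.CycB.StalkExact
open scoped Groth.Agent.Dcoh.MonCat

variable {X Y : Scheme.{u}}

/-- If `u`, `v` are surjective at `x` then `u` is bijective at `x`. -/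
theorem bijective_of_surjective {F G : X.Modules} (hF : Coh.IsCoh F) (u : F ⟶ G) (v : G ⟶ F)
    (x : X) (hu : Function.Surjective (stalkLin u x)) (hv : Function.Surjective (stalkLin v x)) :
    Function.Bijective (stalkLin u x) := by
  have := CycB.CohStalk.finite_stalk F hF x
  have h1 : Function.Surjective ((stalkLin v x).comp (stalkLin u x)) := hv.comp hu
  have h2 := OrzechProperty.injective_of_surjective_endomorphism _ h1
  exact ⟨Function.Injective.of_comp h2, hu⟩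

/-- An open restriction of a morphism bijective on stalks is an isomorphism. -/
theorem isIso_restrict {U : Scheme.{u}} (j : U ⟶ X) [IsOpenImmersion j] {F G : X.Modules}
    (u : F ⟶ G) (h : ∀ x : U, Function.Bijective (stalkLin u (j x))) :
    IsIso ((Scheme.Modules.restrictFunctor j).map u) := by
  rw [PerfA.Restrict.isIso_iff_stalk]
  intro x
  refine (NatIso.isIso_map_iff (PerfA.Restrict.stalkRestrict j x) u).2 ?_
  exact (ConcreteCategory.isIso_iff_bijective _).mpr (h x)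

/-- Vanishing of `H^1` of `G_y ⊗ E'` for every dual `E'` of `F_y`. -/
def Van {Z : Scheme.{u}} (F G : Z.Modules) : Prop :=
  ∀ E' : Z.Modules, Nonempty (ExactPairing F E') → Subsingleton (Coh.HH Z (CohB1.tensorMod G E') 1)

theorem Van.of_iso {Z : Scheme.{u}} {F G F' G' : Z.Modules} (h : Van F G) (e : F ≅ F')
    (e' : G ≅ G') : Van F' G' := by
  rintro E' ⟨hE'⟩
  have h1 : Subsingleton (Coh.HH Z (G ⊗ E') 1) := h E' ⟨exactPairingCongrLeft e⟩
  obtain ⟨e1, -⟩ := Ega3B.FibreResid.exists_equiv_HH (whiskerRightIso e' E') 1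
  exact @Equiv.subsingleton _ _ e1.symm.toEquiv h1

theorem van_of_sheafHom {Z : Scheme.{u}} (F G : Z.Modules) [DCoh.HasSheafHom F]
    (h : Subsingleton (Coh.HH Z ((DCoh.sheafHom F).obj G) 1)) : Van F G := by
  rintro E' ⟨hE'⟩
  obtain ⟨e⟩ := HomLift.nonempty_sheafHom_iso F E' G
  obtain ⟨e', -⟩ := Ega3B.FibreResid.exists_equiv_HH e 1
  exact e'.symm.toEquiv.subsingleton

/-- The main result. -/
theorem exists_iso (f : X ⟶ Y) [IsProper f] [Flat f]
    [IsLocallyNoetherian Y] (y : Y) (F G : X.Modules) (hF : FlatMod.IsFinLocFree F)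
    (hG : FlatMod.IsFinLocFree G) (h1 : Van (CohIII.fiberMod f F y) (CohIII.fiberMod f F y))
    (hy : Nonempty (CohIII.fiberMod f F y ≅ CohIII.fiberMod f G y)) :
    ∃ U : Y.Opens, y ∈ U ∧ Nonempty (F.restrict (f ⁻¹ᵁ U).ι ≅ G.restrict (f ⁻¹ᵁ U).ι) := by
  obtain ⟨W, hW, hyW, -⟩ := exists_isAffineOpen_mem_and_subset (x := y) (U := ⊤) trivial
  obtain ⟨g, q, σ, hg, H, -⟩ := Ega3B.EtPoint.exists_square f hW ⟨y, hyW⟩
  obtain ⟨φ0⟩ := hy
  obtain ⟨εF⟩ := Ega3B.FibreResid.nonempty_fiberMod_iso f F y (f ⁻¹ᵁ W) g hg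
  obtain ⟨εG⟩ := Ega3B.FibreResid.nonempty_fiberMod_iso f G y (f ⁻¹ᵁ W) g hg
  let φ : (Scheme.Modules.pullback g).obj (F.restrict (f ⁻¹ᵁ W).ι) ≅
    (Scheme.Modules.pullback g).obj (G.restrict (f ⁻¹ᵁ W).ι) := εF ≪≫ φ0 ≪≫ εG.symm
  have hN : IsNoetherianRing Γ(Y, W) := IsLocallyNoetherian.component_noetherian ⟨W, hW⟩
  let iO : (f ⁻¹ᵁ W).toScheme.Over (Spec (CommRingCat.of Γ(Y, W))) :=
    ⟨Ega3B.PackageAsm.strMap f hW⟩
  have hpr : IsProper ((f ⁻¹ᵁ W).toScheme ↘ Spec (CommRingCat.of Γ(Y, W))) :=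
    inferInstanceAs (IsProper ((f ∣_ W) ≫ hW.isoSpec.hom))
  have hfl : Flat ((f ⁻¹ᵁ W).toScheme ↘ Spec (CommRingCat.of Γ(Y, W))) :=
    inferInstanceAs (Flat ((f ∣_ W) ≫ hW.isoSpec.hom))
  have hF1 := Dcoh.FinLocFree.isFinLocFree_restrict hF (f ⁻¹ᵁ W).ι
  have hG1 := Dcoh.FinLocFree.isFinLocFree_restrict hG (f ⁻¹ᵁ W).ι
  have hcF := PerfA.CohSerre.isCoh_of_isFinLocFree hF1
  have hcG := PerfA.CohSerre.isCoh_of_isFinLocFree hG1
  have hX1 : IsLocallyNoetherian (f ⁻¹ᵁ W).toScheme :=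
    LocallyOfFiniteType.isLocallyNoetherian ((f ⁻¹ᵁ W).toScheme ↘ Spec (CommRingCat.of Γ(Y, W)))
  obtain ⟨c, u, hc, hu⟩ := HomLift.exists_lift hF1 hG1 (hW.primeIdealOf ⟨y, hyW⟩).asIdeal H
    (h1.of_iso εF.symm (φ0 ≪≫ εG.symm)) φ.hom
  obtain ⟨c', v, hc', hv⟩ := HomLift.exists_lift hG1 hF1 (hW.primeIdealOf ⟨y, hyW⟩).asIdeal H
    (h1.of_iso (φ0 ≪≫ εG.symm) εF.symm) φ.inv
  have i1 := HomLift.isIso_act ((Scheme.Modules.pullback g).obj (F.restrict (f ⁻¹ᵁ W).ι)) hc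
  have i2 := HomLift.isIso_act ((Scheme.Modules.pullback g).obj (G.restrict (f ⁻¹ᵁ W).ι)) hc'
  have i3 : IsIso ((Scheme.Modules.pullback g).map u) := by rw [hu]; infer_instance
  have i4 : IsIso ((Scheme.Modules.pullback g).map v) := by rw [hv]; infer_instance
  -- surjectivity of the stalk maps of `g`
  have hgs : ∀ z, Function.Surjective (g.stalkMap z).hom := by
    intro z
    have h : Function.Surjective ((g ≫ (f ⁻¹ᵁ W).ι).stalkMap z).hom := by
      rw [hg]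
      exact CycB.FiberKer.stalkMap_fiberι_surjective f y z
    rw [Scheme.Hom.stalkMap_comp] at h
    intro t
    obtain ⟨s, hs⟩ := h t
    exact ⟨_, hs⟩
  let V : (f ⁻¹ᵁ W).toScheme.Opens := ⟨{x | Function.Injective (stalkLin u x)} ∩
    {x | Function.Surjective (stalkLin u x)},
    (FibreMono.isOpen_injective u hcF hcG).inter (FibreMono.isOpen_surjective u hcF hcG)⟩
  have hV : ∀ z, g z ∈ V := fun z =>
    bijective_of_surjective hcF u v (g z)
      (FibreMono.surjective_stalk g hcG u z (hgs z) (stalkLin_surjective _ z))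
      (FibreMono.surjective_stalk g hcF v z (hgs z) (stalkLin_surjective _ z))
  have hfib : ∀ x : X, f x = y → x ∈ (f ⁻¹ᵁ W).ι ''ᵁ V := by
    intro x hx
    have h4 : x ∈ Set.range (f.fiberι y) := by
      rw [f.range_fiberι y]
      exact hx
    obtain ⟨z, rfl⟩ := h4
    refine ⟨g z, hV z, ?_⟩
    rw [← hg]
    rfl
  obtain ⟨U, hyU, hUW, hU⟩ := Ega3B.NearFibre.exists_tube f f.isClosedMap y _ hfib W hyW
  refine ⟨U, hyU, ?_⟩
  let j : (f ⁻¹ᵁ U).toScheme ⟶ (f ⁻¹ᵁ W).toScheme := X.homOfLE (f.preimage_mono hUW)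
  have hj : j ≫ (f ⁻¹ᵁ W).ι = (f ⁻¹ᵁ U).ι := X.homOfLE_ι _
  have hiso : IsIso ((Scheme.Modules.restrictFunctor j).map u) := by
    refine isIso_restrict j u fun x => ?_
    have h5 : (f ⁻¹ᵁ U).ι x ∈ (f ⁻¹ᵁ W).ι ''ᵁ V := hU x.2
    obtain ⟨x', hx', e⟩ := h5
    have h6 : x' = j x := by
      apply (f ⁻¹ᵁ W).ι.isOpenEmbedding.injective
      refine e.trans ?_
      rw [← hj]
      rfl
    subst h6
    exact hx'
  let eF : ∀ M : X.Modules, M.restrict (f ⁻¹ᵁ U).ι ≅ (M.restrict (f ⁻¹ᵁ W).ι).restrict j :=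
    fun M => (Scheme.Modules.restrictFunctorCongr hj.symm).app M ≪≫
      (Scheme.Modules.restrictFunctorComp j (f ⁻¹ᵁ W).ι).app M
  exact ⟨eF F ≪≫ asIso ((Scheme.Modules.restrictFunctor j).map u) ≪≫ (eF G).symm⟩

end K45.NearIso
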