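import Mathlib.RingTheory.LocalProperties.IntegrallyClosed
import Mathlib.RingTheory.Localization.AtPrime.Basic
import Mathlib.RingTheory.FiniteType
import Mathlib.RingTheory.IntegralClosure.IsIntegral.Basic

/-!
# A finite birational-type extension is trivial near an integrally closed point
-/

set_option autoImplicit false

namespace K45.PointAlg

open Polynomial

variable {B C K L R : Type*} [CommRing B] [CommRing C] [Field K] [Field L] [CommRing R]
  [Algebra B K] [Algebra B R] [Algebra R K] [IsScalarTower B R K]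

theorem exists_notMem (P : Ideal B) [P.IsPrime] [IsLocalization.AtPrime R P] [IsFractionRing R K]
    [IsDomain R] [IsIntegrallyClosed R] (φ : B →+* C) (ψ : K →+* L) (γ : C →+* L)
    (hγ : Function.Injective γ) (hc : ∀ b, γ (φ b) = ψ (algebraMap B K b))
    (halg : ∀ x : L, (∃ q : Polynomial K, q ≠ 0 ∧ Polynomial.eval₂ ψ x q = 0) →
      x ∈ Set.range ψ) (c : C) (hcint : φ.IsIntegralElem c) :
    ∃ s ∉ P, ∃ b : B, φ b = φ s * c := by
  obtain ⟨p, hpm, hp⟩ := hcint
  have hps : Polynomial.eval₂ (ψ.comp (algebraMap B K)) (γ c) p = 0 := by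
    have := congrArg γ hp
    rw [Polynomial.hom_eval₂, map_zero] at this
    rw [← this]
    congr 1
    ext t
    exact (hc t).symm
  obtain ⟨t, ht⟩ := halg (γ c) ⟨p.map (algebraMap B K), (hpm.map _).ne_zero, by
    rw [Polynomial.eval₂_map]; exact hps⟩
  have htint : IsIntegral B t := by
    refine ⟨p, hpm, ?_⟩
    apply ψ.injective
    rw [map_zero, Polynomial.hom_eval₂, ht]
    exact hps
  obtain ⟨r, hr⟩ := IsIntegrallyClosed.isIntegral_iff.mp (htint.tower_top (A := R))
  obtain ⟨⟨b, s⟩, hbs⟩ := IsLocalization.surj P.primeCompl r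
  refine ⟨s, s.2, b, ?_⟩
  apply hγ
  rw [map_mul, hc, hc, ← ht, ← hr, ← map_mul]
  congr 1
  rw [IsScalarTower.algebraMap_apply B R K, IsScalarTower.algebraMap_apply B R K, ← map_mul,
    mul_comm]
  exact congrArg _ hbs.symm

theorem exists_notMem_forall (P : Ideal B) [P.IsPrime] [IsLocalization.AtPrime R P]
    [IsFractionRing R K] [IsDomain R] [IsIntegrallyClosed R] (φ : B →+* C) (hφ : φ.Finite)
    (ψ : K →+* L) (γ : C →+* L)
    (hγ : Function.Injective γ) (hc : ∀ b, γ (φ b) = ψ (algebraMap B K b))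
    (halg : ∀ x : L, (∃ q : Polynomial K, q ≠ 0 ∧ Polynomial.eval₂ ψ x q = 0) →
      x ∈ Set.range ψ) :
    ∃ s ∉ P, ∀ c : C, ∃ b : B, φ b = φ s * c := by
  classical
  algebraize [φ]
  obtain ⟨S, hS⟩ := Module.Finite.fg_top (R := B) (M := C)
  choose s hs b hb using fun c : C => exists_notMem (R := R) P φ ψ γ hγ hc halg c
    (hφ.to_isIntegral c)
  refine ⟨∏ c ∈ S, s c, ?_, ?_⟩
  · intro h
    obtain ⟨c, hcS, hc'⟩ := Ideal.IsPrime.prod_mem_iff.mp h
    exact hs c hc'
  · intro c
    have hcS : c ∈ Submodule.span B (S : Set C) := by rw [hS]; trivial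
    induction hcS using Submodule.span_induction with
    | mem c hc' =>
      refine ⟨(∏ d ∈ S.erase c, s d) * b c, ?_⟩
      rw [map_mul, hb, ← Finset.mul_prod_erase S s hc', map_mul]
      ring
    | zero => exact ⟨0, by simp⟩
    | add x y _ _ hx hy =>
      obtain ⟨x', hx⟩ := hx
      obtain ⟨y', hy⟩ := hy
      exact ⟨x' + y', by rw [map_add, hx, hy]; ring⟩
    | smul r x _ hx =>
      obtain ⟨x', hx⟩ := hx
      refine ⟨r * x', ?_⟩
      rw [map_mul, hx, Algebra.smul_def]
      change φ r * _ = _ * (φ r * x)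
      ring

end K45.PointAlg
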