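import Groth.Agent.Coherent.K45.PointAlg
import Groth.Agent.FlatA.AppIso
import Groth.Agent.FlatA.SteinNoeth
import Groth.Agent.Ega3B.EtPoint
import Groth.Agent.Ega3B.LiftSection
import Groth.Agent.S2431
import Groth.Prelude.Def_ega3

/-!
# `f_* O_X = O_Y` near an integrally closed point
-/

set_option autoImplicit false
universe u

open CategoryTheory CategoryTheory.Limits AlgebraicGeometry Opposite TopologicalSpace
open Groth.Agent

namespace K45.PointIso

theorem bijective_of_away {R S R' S' : Type u} [CommRing R] [CommRing S] [CommRing R'] [CommRing S']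
    [Algebra R R'] [Algebra S S'] (φ : R →+* S) (hφ : Function.Injective φ) (r : R)
    (hs : ∀ c : S, ∃ b : R, φ b = φ r * c)
    [IsLocalization.Away r R'] [IsLocalization.Away (φ r) S'] (ψ : R' →+* S')
    (h : ∀ a, ψ (algebraMap R R' a) = algebraMap S S' (φ a)) : Function.Bijective ψ := by
  constructor
  · rw [injective_iff_map_eq_zero]
    intro x hx
    obtain ⟨n, a, ha⟩ := IsLocalization.Away.surj r x
    have h1 : algebraMap S S' (φ a) = 0 := by
      rw [← h, ← ha, map_mul, hx, zero_mul]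
    obtain ⟨⟨_, m, rfl⟩, hm⟩ := (IsLocalization.map_eq_zero_iff (Submonoid.powers (φ r)) S' _).mp h1
    have h2 : r ^ m * a = 0 := by
      apply hφ
      rw [map_mul, map_pow, map_zero]
      exact hm
    have h3 : algebraMap R R' a = 0 :=
      (IsLocalization.map_eq_zero_iff (Submonoid.powers r) R' _).mpr ⟨⟨_, m, rfl⟩, h2⟩
    rw [h3] at ha
    exact ((IsLocalization.Away.algebraMap_isUnit r).pow n).mul_left_eq_zero.mp ha
  · intro y
    obtain ⟨n, c, hc⟩ := IsLocalization.Away.surj (φ r) y
    obtain ⟨b, hb⟩ := hs c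
    have hu : IsUnit (algebraMap R R' r ^ (n + 1)) :=
      (IsLocalization.Away.algebraMap_isUnit r).pow _
    obtain ⟨v, hv⟩ := hu
    refine ⟨algebraMap R R' b * ↑v⁻¹, ?_⟩
    have h1 : IsUnit (ψ (algebraMap R R' r ^ (n + 1))) := by
      rw [← hv]; exact v.isUnit.map ψ
    apply h1.mul_right_cancel
    rw [← map_mul, mul_assoc, ← hv, Units.inv_mul, mul_one, h, hb, hv, map_pow, h, pow_succ,
      ← mul_assoc, hc, ← map_mul, mul_comm]

variable {X Y : Scheme.{u}}

theorem finite_app [IsLocallyNoetherian Y] (f : X ⟶ Y) [IsProper f] (V : Y.Opens)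
    (hV : IsAffineOpen V) : (f.app V).hom.Finite := by
  have : IsAffine (V : Scheme.{u}) := hV
  have hN : IsNoetherianRing Γ(V, ⊤) :=
    IsLocallyNoetherian.component_noetherian ⟨⊤, isAffineOpen_top _⟩
  have h := FlatA.SteinNoeth.finite_appTop (f ∣_ V)
  rw [morphismRestrict_appTop] at h
  have hr := RingHom.toMorphismProperty_respectsIso_iff.mp RingHom.finite_respectsIso
  have h1 : (RingHom.toMorphismProperty RingHom.Finite) (f.app (V.ι ''ᵁ ⊤)) :=
    (MorphismProperty.cancel_right_of_respectsIso (P := RingHom.toMorphismProperty RingHom.Finite)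
      (f.app (V.ι ''ᵁ ⊤))
      (X.presheaf.mapIso (eqToIso (image_morphismRestrict_preimage f V ⊤)).op).hom).mp h
  have key : ∀ W : Y.Opens, W = V → (RingHom.toMorphismProperty RingHom.Finite) (f.app W) →
      (f.app V).hom.Finite := by
    rintro _ rfl h; exact h
  exact key _ (by simp) h1

theorem isIso_app_restrict_iff (f : X ⟶ Y) (U : Y.Opens) (V : (U : Scheme.{u}).Opens) :
    IsIso ((f ∣_ U).app V) ↔ IsIso (f.app (U.ι ''ᵁ V)) := by
  rw [morphismRestrict_app]
  have h : IsIso (X.presheaf.map (eqToHom (image_morphismRestrict_preimage f U V)).op) :=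
    (X.presheaf.mapIso (eqToIso (image_morphismRestrict_preimage f U V)).op).isIso_hom
  exact ⟨fun h' => @IsIso.of_isIso_comp_right _ _ _ _ _ _ _ h h',
    fun h' => @IsIso.comp_isIso _ _ _ _ _ _ _ h' h⟩

theorem isIso_app_congr (f : X ⟶ Y) {V W : Y.Opens} (h : W = V) (h' : IsIso (f.app W)) :
    IsIso (f.app V) := by
  subst h; exact h'

/-- Isomorphism on all opens of an affine open on which it is an isomorphism. -/
theorem isIso_app_of_le (f : X ⟶ Y) [QuasiCompact f] [QuasiSeparated f] {U : Y.Opens}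
    (hU : IsAffineOpen U) (h : IsIso (f.app U)) :
    (∀ V : (U : Scheme.{u}).Opens, IsIso ((f ∣_ U).app V)) ∧
      ∀ V : Y.Opens, V ≤ U → IsIso (f.app V) := by
  have hA : IsAffine (U : Scheme.{u}) := hU
  have h1 : IsIso (f ∣_ U).appTop :=
    (isIso_app_restrict_iff f U ⊤).mpr (isIso_app_congr f (by simp) h)
  have h2 := fun V => FlatA.AppIso.isIso_app_of_appTop (f ∣_ U) V
  refine ⟨h2, fun V hV => ?_⟩
  exact isIso_app_congr f (by rw [Scheme.Hom.image_preimage_eq_opensRange_inf,
    Scheme.Opens.opensRange_ι, inf_eq_right.mpr hV]) ((isIso_app_restrict_iff f U _).mp (h2 (U.ι ⁻¹ᵁ V)))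

theorem geometricallyConnected_fibre (f : X ⟶ Y) {U : Y.Opens} (hU : IsAffineOpen U)
    (h : GeometricallyConnected (f ∣_ U)) (y : U) :
    GeometricallyConnected (f.fiberToSpecResidueField y.1) := by
  obtain ⟨g, hg, H⟩ := Ega3B.EtPoint.exists_square_residueField f hU y
  have h1 : GeometricallyConnected ((f ∣_ U) ≫ hU.isoSpec.hom) :=
    (MorphismProperty.cancel_right_of_respectsIso @GeometricallyConnected (f ∣_ U)
      hU.isoSpec.hom).mpr h
  exact MorphismProperty.of_isPullback H h1

variable [IsIntegral X] [IsIntegral Y] [IsLocallyNoetherian Y]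

open CohIII in
theorem exists_nhd (f : X ⟶ Y) [IsProper f]
    (hdom : f.base (genericPoint X) ⤳ genericPoint Y)
    (halg : ∀ x : X.functionField,
      (∃ q : Polynomial Y.functionField, q ≠ 0 ∧
        Polynomial.eval₂ (CohIII.stalkToFunctionField f (genericPoint Y) hdom) x q = 0) →
      x ∈ Set.range (CohIII.stalkToFunctionField f (genericPoint Y) hdom))
    (y : Y) (hy : IsIntegrallyClosed (Y.presheaf.stalk y)) :
    ∃ U : Y.Opens, IsAffineOpen U ∧ y ∈ U ∧ IsIso (f.app U) := by
  obtain ⟨V, hV, hyV, -⟩ := exists_isAffineOpen_mem_and_subset (x := y) (U := ⊤) trivial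
  have hgen : f.base (genericPoint X) = genericPoint Y :=
    (hdom.antisymm ((genericPoint_spec Y).specializes trivial)).eq
  have hVn : Nonempty V := ⟨⟨y, hyV⟩⟩
  have hyV' : genericPoint Y ∈ V :=
    ((genericPoint_spec Y).mem_open_set_iff V.isOpen).mpr (by simpa using ⟨y, hyV⟩)
  have hxV : genericPoint X ∈ f ⁻¹ᵁ V := by
    change f.base (genericPoint X) ∈ V
    rw [hgen]; exact hyV'
  have hn : Nonempty (f ⁻¹ᵁ V) := ⟨⟨_, hxV⟩⟩
  have hcomp : ∀ t : Γ(Y, V), X.germToFunctionField (f ⁻¹ᵁ V) (f.app V t) =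
      CohIII.stalkToFunctionField f (genericPoint Y) hdom (Y.germToFunctionField V t) := by
    intro t
    have e1 : (Y.presheaf.stalkSpecializes hdom) (Y.presheaf.germ V (genericPoint Y) hyV' t) =
        Y.presheaf.germ V (f.base (genericPoint X)) hxV t :=
      TopCat.Presheaf.germ_stalkSpecializes_apply ..
    have e2 : (f.stalkMap (genericPoint X)) (Y.presheaf.germ V (f.base (genericPoint X)) hxV t) =
        X.presheaf.germ (f ⁻¹ᵁ V) (genericPoint X) hxV (f.app V t) :=
      Scheme.Hom.germ_stalkMap_apply ..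
    change _ = (f.stalkMap (genericPoint X)) ((Y.presheaf.stalkSpecializes hdom)
      (Y.presheaf.germ V (genericPoint Y) hyV' t))
    rw [e1]
    exact e2.symm
  have hfr := functionField_isFractionRing_of_isAffineOpen Y V hV
  have hinj : Function.Injective (f.app V).hom := by
    intro a b hab
    apply Y.germToFunctionField_injective V
    apply (CohIII.stalkToFunctionField f (genericPoint Y) hdom).injective
    rw [← hcomp, ← hcomp]
    exact congrArg _ hab
  let _ := (TopCat.Presheaf.algebra_section_stalk Y.presheaf ⟨y, hyV⟩)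
  have hloc : IsLocalization.AtPrime (Y.presheaf.stalk y) (hV.primeIdealOf ⟨y, hyV⟩).asIdeal :=
    hV.isLocalization_stalk ⟨y, hyV⟩
  have hst : IsScalarTower Γ(Y, V) (Y.presheaf.stalk y) Y.functionField :=
    functionField_isScalarTower Y V ⟨y, hyV⟩
  obtain ⟨g, hg, hgs⟩ := PointAlg.exists_notMem_forall (R := Y.presheaf.stalk y)
    (K := Y.functionField)
    (hV.primeIdealOf ⟨y, hyV⟩).asIdeal (f.app V).hom (finite_app f V hV)
    (CohIII.stalkToFunctionField f (genericPoint Y) hdom)
    (X.germToFunctionField (f ⁻¹ᵁ V)).hom (X.germToFunctionField_injective (f ⁻¹ᵁ V))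
    hcomp halg
  refine ⟨Y.basicOpen g, hV.basicOpen g, Ega3B.LiftSection.mem_basicOpen_of_not_mem hV ⟨y, hyV⟩ g hg,
    ?_⟩
  have h1 : IsLocalization.Away g Γ(Y, Y.basicOpen g) := hV.isLocalization_basicOpen g
  have h2 : IsLocalization.Away (f.app V g) Γ(X, X.basicOpen (f.app V g)) :=
    isLocalization_basicOpen_of_qcqs (f.isCompact_preimage hV.isCompact)
      (f.isQuasiSeparated_preimage hV.isQuasiSeparated) _
  have e : f ⁻¹ᵁ Y.basicOpen g = X.basicOpen (f.app V g) := Scheme.preimage_basicOpen f g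
  refine @IsIso.of_isIso_comp_right _ _ _ _ _ _ (X.presheaf.map (eqToHom e.symm).op) _ ?_
  rw [ConcreteCategory.isIso_iff_bijective]
  refine bijective_of_away (f.app V).hom hinj g hgs _ fun a => ?_
  have h3 : (Y.presheaf.map (homOfLE (Y.basicOpen_le g)).op ≫ f.app (Y.basicOpen g) ≫
    X.presheaf.map (eqToHom e.symm).op) =
    (f.app V ≫ X.presheaf.map (homOfLE (X.basicOpen_le (f.app V g))).op) := by
    rw [Scheme.Hom.naturality_assoc, ← Functor.map_comp]
    rfl
  exact congr(($h3).hom a)

end K45.PointIso
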