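import Groth.Agent.Ega3B.TensorAUnit
import Groth.Prelude.Def_ega3
import Mathlib.Algebra.Category.ModuleCat.EpiMono

/-!
# Transport along natural isomorphisms of functors to abelian groups

* `linEquiv` : a natural isomorphism `H^p(X, F ⊗ M) ≅ Ψ(M)` of abelian group valued functors is
  linear over `A`.
* `surjective_map_iff`, `injective_map_iff`.
-/

set_option autoImplicit false
universe u

open CategoryTheory CategoryTheory.Limits AlgebraicGeometry

namespace K45.Transport

variable {A : Type u} [CommRing A]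

theorem surjective_map_iff {F : ModuleCat.{u} A ⥤ AddCommGrpCat.{u}}
    {G : ModuleCat.{u} A ⥤ ModuleCat.{u} A}
    (e : F ≅ G ⋙ forget₂ (ModuleCat.{u} A) AddCommGrpCat.{u}) {M N : ModuleCat.{u} A} (f : M ⟶ N) :
    Function.Surjective (F.map f).hom ↔ Function.Surjective (G.map f).hom := by
  have hM : Function.Bijective (e.hom.app M).hom := (ConcreteCategory.isIso_iff_bijective _).1
    inferInstance
  have hN : Function.Bijective (e.hom.app N).hom := (ConcreteCategory.isIso_iff_bijective _).1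
    inferInstance
  have nat : ∀ x, (e.hom.app N).hom ((F.map f).hom x) = (G.map f).hom ((e.hom.app M).hom x) :=
    fun x => ConcreteCategory.congr_hom (e.hom.naturality f) x
  constructor
  · intro h y
    obtain ⟨x, hx⟩ := h ((hN.2 y).choose)
    refine ⟨(e.hom.app M).hom x, ?_⟩
    rw [← nat, hx]
    exact (hN.2 y).choose_spec
  · intro h y
    obtain ⟨z, hz⟩ := h ((e.hom.app N).hom y)
    obtain ⟨x, rfl⟩ := hM.2 z
    exact ⟨x, hN.1 ((nat x).trans hz)⟩

theorem injective_map_iff {F : ModuleCat.{u} A ⥤ AddCommGrpCat.{u}}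
    {G : ModuleCat.{u} A ⥤ ModuleCat.{u} A}
    (e : F ≅ G ⋙ forget₂ (ModuleCat.{u} A) AddCommGrpCat.{u}) {M N : ModuleCat.{u} A} (f : M ⟶ N) :
    Function.Injective (F.map f).hom ↔ Function.Injective (G.map f).hom := by
  have hM : Function.Bijective (e.hom.app M).hom := (ConcreteCategory.isIso_iff_bijective _).1
    inferInstance
  have hN : Function.Bijective (e.hom.app N).hom := (ConcreteCategory.isIso_iff_bijective _).1
    inferInstance
  have nat : ∀ x, (e.hom.app N).hom ((F.map f).hom x) = (G.map f).hom ((e.hom.app M).hom x) :=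
    fun x => ConcreteCategory.congr_hom (e.hom.naturality f) x
  constructor
  · intro h x y hxy
    obtain ⟨x, rfl⟩ := hM.2 x
    obtain ⟨y, rfl⟩ := hM.2 y
    have : x = y := h (hN.1 ((nat x).trans (hxy.trans (nat y).symm)))
    rw [this]
  · intro h x y hxy
    apply hM.1
    apply h
    rw [← nat, ← nat, hxy]

variable {X : Scheme.{u}} [X.Over (Spec (CommRingCat.of A))]

theorem HAb_map_smulMod (F : X.Modules) (a : A) (p : ℕ) (x : Coh.HH X F p) :
    ((CohIII.HAb X p).map (Formal.smulMod A F a)).hom x = a • x := rfl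

theorem hom_smul (F : X.Modules) (p : ℕ) {Ψ : ModuleCat.{u} A ⥤ ModuleCat.{u} A}
    (e : CohIII.tensorAFunctor A F ⋙ CohIII.HAb X p ≅
      Ψ ⋙ forget₂ (ModuleCat.{u} A) AddCommGrpCat.{u})
    (h' : ∀ (M : ModuleCat.{u} A) (a : A), Ψ.map (a • 𝟙 M) = a • 𝟙 _) (M : ModuleCat.{u} A)
    (a : A) (x : (CohIII.tensorAFunctor A F ⋙ CohIII.HAb X p).obj M) :
    (e.hom.app M).hom (((CohIII.HAb X p).map
      (Formal.smulMod A ((CohIII.tensorAFunctor A F).obj M) a)).hom x) =
      @HSMul.hSMul A (Ψ.obj M) (Ψ.obj M) _ a ((e.hom.app M).hom x) := by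
  rw [← Groth.Agent.Ega3B.TensorAUnit.tensorAFunctor_map_smul]
  have h1 : (e.hom.app M).hom
      (((CohIII.tensorAFunctor A F ⋙ CohIII.HAb X p).map (a • 𝟙 M)).hom x) =
      (Ψ.map (a • 𝟙 M)).hom ((e.hom.app M).hom x) :=
    ConcreteCategory.congr_hom (e.hom.naturality (a • 𝟙 M)) x
  rw [h'] at h1
  exact h1

/-- A natural isomorphism `H^p(X, F ⊗ M) ≅ Ψ(M)` of abelian group valued functors is linear. -/
noncomputable def linEquiv (F : X.Modules) (p : ℕ) {Ψ : ModuleCat.{u} A ⥤ ModuleCat.{u} A}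
    (e : CohIII.tensorAFunctor A F ⋙ CohIII.HAb X p ≅
      Ψ ⋙ forget₂ (ModuleCat.{u} A) AddCommGrpCat.{u})
    (h' : ∀ (M : ModuleCat.{u} A) (a : A), Ψ.map (a • 𝟙 M) = a • 𝟙 _) (M : ModuleCat.{u} A) :
    Coh.HH X ((CohIII.tensorAFunctor A F).obj M) p ≃ₗ[A] Ψ.obj M :=
  AddEquiv.toLinearEquiv (M := Coh.HH X ((CohIII.tensorAFunctor A F).obj M) p) (M₂ := Ψ.obj M)
    (e.app M).addCommGroupIsoToAddEquiv (fun a x => hom_smul F p e h' M a x)

end K45.Transport
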